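import Groth.Agent.Lib.PureRep4.Local
import Mathlib

/-!
# Descending induction on the dimension
-/

set_option autoImplicit false
set_option linter.style.haveILetI false
set_option maxSynthPendingDepth 3
set_option backward.isDefEq.respectTransparency false
set_option backward.isDefEq.respectTransparency.types false

universe u

open CategoryTheory CategoryTheory.Limits AlgebraicGeometry Opposite
open scoped TensorProduct

attribute [local instance] Algebra.TensorProduct.rightAlgebra

noncomputable section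

namespace Groth.Agent.PureRep4

variable {A : Type u} [CommRing A] {X : Scheme.{u}} {f : X ⟶ Spec (CommRingCat.of A)} [LocallyOfFiniteType f]
  {F : X.Modules} [Coh.IsQCoh F]

/-- One step down. -/
theorem repOn_step (hchart : ∀ (t : Ideal A) [t.IsPrime], HasChart f F t) (m : ℕ)
    (h : RepOn f F (m + 1) (𝟙 (Spec (CommRingCat.of A)))) : RepOn f F m (𝟙 (Spec (CommRingCat.of A))) := by
  obtain ⟨Z, i, h1, h2, h3, hZ⟩ := h
  haveI := h1
  haveI := h2
  haveI := h3
  have hPi : FpqcFun4.P f F (m + 1) (Over.mk i) :=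
    P_congr (Category.comp_id i) ((hZ Z i).2 ⟨𝟙 Z, Category.id_comp i⟩)
  have hloc : RepOn f F m i := repOn_of_local i fun z => by
    obtain ⟨W, hW, hzW, -⟩ := exists_isAffineOpen_mem_and_subset (X := Z) (x := z) (U := ⊤) trivial
    let R : Type u := Γ(Z, W)
    obtain ⟨ψ, hψ⟩ := Spec.map_surjective (hW.fromSpec ≫ i)
    letI : Algebra A R := ψ.hom.toAlgebra
    have hψ' : Spec.map (CommRingCat.ofHom (algebraMap A R)) = hW.fromSpec ≫ i := hψ
    let r : PrimeSpectrum R := hW.primeIdealOf ⟨z, hzW⟩
    obtain ⟨E, _, _, het, ⟨e, he, her⟩, hrep⟩ :=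
      exists_etale_chart hchart m R (P_congr hψ'.symm (P_comp hW.fromSpec hPi)) r.asIdeal
    have hopen : IsOpen (Set.range (PrimeSpectrum.comap (algebraMap R E))) := by
      rw [← Set.image_univ]
      exact PrimeSpectrum.isOpenMap_comap_of_hasGoingDown_of_finitePresentation _ isOpen_univ
    obtain ⟨_, ⟨a, rfl⟩, har, haE⟩ := PrimeSpectrum.isTopologicalBasis_basic_opens.exists_subset_of_mem_open
      (show r ∈ Set.range (PrimeSpectrum.comap (algebraMap R E)) from ⟨⟨e, he⟩, PrimeSpectrum.ext her⟩) hopen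
    let p₁ := Spec.map (CommRingCat.ofHom (algebraMap R E))
    let q₁ := Spec.map (CommRingCat.ofHom (algebraMap R (Localization.Away a)))
    haveI : IsOpenImmersion q₁ := IsOpenImmersion.of_isLocalization a
    haveI : Flat p₁ :=
      (HasRingHomProperty.Spec_iff (P := @Flat)).2 (RingHom.flat_algebraMap_iff.2 inferInstance)
    have hrange : Set.range q₁ = (PrimeSpectrum.basicOpen a : Set (PrimeSpectrum R)) :=
      PrimeSpectrum.localization_away_comap_range (S := Localization.Away a) a
    haveI : Surjective (pullback.fst q₁ p₁) := ⟨fun x => by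
      obtain ⟨y, hy⟩ := haE (hrange.le ⟨x, rfl⟩)
      obtain ⟨w, hw, -⟩ := Scheme.exists_preimage_of_isPullback (IsPullback.of_hasPullback q₁ p₁) x y hy.symm
      exact ⟨w, hw⟩⟩
    haveI : QuasiCompact (pullback.fst q₁ p₁) := inferInstance
    have hrep' : RepOn f F m (q₁ ≫ hW.fromSpec ≫ i) := by
      refine repOn_descend (pullback.fst q₁ p₁) ?_
      rw [← hψ', ← Category.assoc, pullback.condition, Category.assoc]
      exact repOn_comp _ hrep
    let j := q₁ ≫ hW.fromSpec
    refine ⟨j.opensRange, ?_, ?_⟩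
    · have hr : r ∈ Set.range q₁ := hrange.ge har
      obtain ⟨w, hw⟩ := hr
      exact ⟨w, by rw [Scheme.Hom.comp_apply, hw]; exact hW.fromSpec_primeIdealOf _⟩
    · rw [← j.isoOpensRange_inv_comp, Category.assoc]
      exact repOn_comp _ (by rw [Category.assoc]; exact hrep')
  obtain ⟨Z', i', g1, g2, g3, hZ'⟩ := hloc
  refine ⟨Z', i' ≫ i, inferInstance, inferInstance, inferInstance, fun T x => ⟨fun hP => ?_, ?_⟩⟩
  · obtain ⟨k, hk⟩ := (hZ T x).1 (by
      intro w hw
      exact lt_of_lt_of_le (hP w hw) (Nat.cast_le.2 (Nat.le_succ m)))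
    obtain ⟨l, hl⟩ := (hZ' T k).1 (P_congr (by rw [hk, Category.comp_id]) hP)
    exact ⟨l, by rw [← Category.assoc, hl, hk]⟩
  · rintro ⟨l, rfl⟩
    exact P_congr (by rw [Category.comp_id, Category.assoc]) ((hZ' T (l ≫ i')).2 ⟨l, rfl⟩)

/-- Representability, given an everywhere valid dimension bound. -/
theorem repOn_all (hchart : ∀ (t : Ideal A) [t.IsPrime], HasChart f F t) (N : ℕ)
    (hN : FpqcFun4.P f F N (Over.mk (𝟙 (Spec (CommRingCat.of A))))) (n : ℕ) :
    RepOn f F n (𝟙 (Spec (CommRingCat.of A))) := by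
  have key : ∀ d, RepOn f F (N + n - d) (𝟙 (Spec (CommRingCat.of A))) := fun d => by
    induction d with
    | zero => exact repOn_of_P (fun w hw => lt_of_lt_of_le (hN w hw) (Nat.cast_le.2 (by omega)))
    | succ d ih =>
      by_cases hd : d < N + n
      · refine repOn_step hchart _ ?_
        rwa [show N + n - (d + 1) + 1 = N + n - d by omega]
      · rwa [show N + n - (d + 1) = N + n - d by omega]
  simpa using key N

end Groth.Agent.PureRep4
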