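import Groth.Agent.Lib.PureRep4.Cover
import Groth.Agent.Lib.PureRep4.Main
import Groth.Agent.S1256
import Mathlib

/-!
# Charts for a pure module over an affine scheme
-/

set_option autoImplicit false
set_option linter.style.haveILetI false
set_option maxSynthPendingDepth 3
set_option backward.isDefEq.respectTransparency false
set_option backward.isDefEq.respectTransparency.types false

universe u

open CategoryTheory CategoryTheory.Limits AlgebraicGeometry Opposite
open scoped TensorProduct

attribute [local instance] Algebra.TensorProduct.rightAlgebra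

noncomputable section

namespace Groth.Agent.PureRep4

/-- The condition only depends on the module up to isomorphism. -/
theorem P_of_iso {X S : Scheme.{u}} {f : X ⟶ S} [LocallyOfFiniteType f] {F F' : X.Modules} [Coh.IsQCoh F]
    [Coh.IsQCoh F'] (e : F ≅ F') {n : ℕ} {T : Over S} (h : FpqcFun4.P f F n T) : FpqcFun4.P f F' n T :=
  fun x hx => h x fun hfl => hx (SchDom.isFlatOverAt_of_iso _ ((Scheme.Modules.pullback _).mapIso e) x hfl)

theorem pullback_mt {R S : Type u} [CommRing R] [CommRing S] (φ : R →+* S) (alg : Algebra R S) (hal : alg = φ.toAlgebra)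
    (M : Type u) [AddCommGroup M] [Module R M] :
    Nonempty ((Scheme.Modules.pullback (Spec.map (CommRingCat.ofHom φ))).obj (mt R M) ≅ mt S (S ⊗[R] M)) := by
  subst hal
  letI := φ.toAlgebra
  let e₁ : (S ⊗[R] M) ≃ₗ[S] (S ⊗[R] M) := LinearEquiv.refl S _
  let e₀ : ((ModuleCat.extendScalars φ).obj (ModuleCat.of R M) : Type u) ≃ₗ[S] (S ⊗[R] M) := e₁
  exact ⟨M1.tildePullbackObjIso (CommRingCat.ofHom φ) (ModuleCat.of R M) ≪≫ (tilde.functor _).mapIso e₀.toModuleIso⟩

theorem P_hom_congr {X S : Scheme.{u}} {f f' : X ⟶ S} (e : f = f') [LocallyOfFiniteType f] [LocallyOfFiniteType f']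
    {F : X.Modules} [Coh.IsQCoh F] {n : ℕ} {T : Over S} : FpqcFun4.P f F n T ↔ FpqcFun4.P f' F n T := by
  subst e; exact Iff.rfl

theorem locallyOfFiniteType_fA (A B : Type u) [CommRing A] [CommRing B] [Algebra A B] [Algebra.FiniteType A B] :
    LocallyOfFiniteType (fA A B) :=
  (HasRingHomProperty.Spec_iff (P := @LocallyOfFiniteType)).2 (RingHom.finiteType_algebraMap.2 inferInstance)

theorem locallyOfFinitePresentation_fA (A B : Type u) [CommRing A] [CommRing B] [Algebra A B]
    [Algebra.FinitePresentation A B] : LocallyOfFinitePresentation (fA A B) :=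
  (HasRingHomProperty.Spec_iff (P := @LocallyOfFinitePresentation)).2
    (RingHom.finitePresentation_algebraMap.2 inferInstance)

variable {A B : Type u} [CommRing A] [CommRing B] [Algebra A B] [Algebra.FinitePresentation A B]
  (N : Type u) [AddCommGroup N] [Module B N] [Module.FinitePresentation B N]

set_option maxHeartbeats 2000000 in
/-- A pure module has charts. -/
theorem hasChart_of_isPure [Coh.IsQCoh (mt B N)] [LocallyOfFiniteType (fA A B)] (hpure : FlatCA.IsPure A B N)
    (t : Ideal A) [t.IsPrime] : HasChart (fA A B) (mt B N) t := by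
  classical
  obtain ⟨A', _, _, t', _, hnbhd, hcover⟩ := S1256.result (A := A) (B := B) N t
  have het := hnbhd.1
  have ht' := hnbhd.2.1
  haveI := het
  haveI := ht'
  let BA := A' ⊗[A] B
  let NA := BA ⊗[B] N
  haveI : Algebra.IsPushout A B A' BA := Algebra.IsPushout.symm inferInstance
  let fm : N →ₗ[B] NA := TensorProduct.mk B BA N 1
  have hfm : IsBaseChange BA fm := TensorProduct.isBaseChange B N BA
  obtain ⟨k, C, _, _, _, _, Nc, _, _, _, _, gm, hC, hcov⟩ := hcover BA NA fm hfm
  haveI : Algebra.FinitePresentation A' BA := inferInstance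
  haveI : Module.FinitePresentation BA NA := inferInstance
  haveI : ∀ i, Algebra.Etale BA (C i) := fun i => (hC i).1
  haveI : ∀ i, Algebra.FinitePresentation A' (C i) := fun i => Algebra.FinitePresentation.trans A' BA (C i)
  haveI : ∀ i, Module.FinitePresentation (C i) (Nc i) := fun i => Module.FinitePresentation.of_equiv (hC i).2.1.equiv
  let f' := fA A' BA
  let F' := mt BA NA
  haveI : LocallyOfFinitePresentation f' := locallyOfFinitePresentation_fA A' BA
  haveI : LocallyOfFiniteType f' := locallyOfFiniteType_fA A' BA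
  haveI : Coh.IsQCoh F' := inferInstanceAs (Coh.IsQCoh (tilde _))
  haveI : Module.FinitePresentation (CommRingCat.of BA) (ModuleCat.of BA NA) := ‹Module.FinitePresentation BA NA›
  have hFp : CohB1.IsFP F' := M1.isFP_tilde _
  let h : ∀ i, Spec (CommRingCat.of (C i)) ⟶ Spec (CommRingCat.of BA) :=
    fun i => Spec.map (CommRingCat.ofHom (algebraMap BA (C i)))
  haveI het' : ∀ i, Etale (h i) := fun i =>
    (HasRingHomProperty.Spec_iff (P := @Etale)).2 (RingHom.etale_algebraMap.2 inferInstance)
  let U : (Spec (CommRingCat.of BA)).Opens := ⟨⋃ i, Set.range (h i), isOpen_iUnion fun i => (h i).isOpenMap.isOpen_range⟩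
  have hUc : IsCompact (U : Set (Spec (CommRingCat.of BA))) :=
    isCompact_iUnion fun i => isCompact_range (h i).continuous
  haveI : CompactSpace U.toScheme := isCompact_iff_compactSpace.mp hUc
  haveI : QuasiCompact (U.ι ≫ f') := (quasiCompact_iff_compactSpace (U.ι ≫ f')).2 inferInstance
  letI : Module A' NA := inferInstance
  haveI : IsScalarTower A' BA NA := inferInstance
  obtain ⟨g, hg, hgU⟩ := exists_away_relAss f' F' hFp U (⟨t', inferInstance⟩ : PrimeSpectrum A') fun x hx hxt => by
    let P : Ideal BA := (x : PrimeSpectrum BA).asIdeal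
    let r : Ideal A' := (f' x : PrimeSpectrum A').asIdeal
    haveI : P.IsPrime := (x : PrimeSpectrum BA).2
    haveI : r.IsPrime := (f' x : PrimeSpectrum A').2
    haveI : P.LiesOver r := ⟨rfl⟩
    have hass := (mem_relAss_spec (R := A') NA r (x : PrimeSpectrum BA) (hq := ⟨rfl⟩)).1 hx
    obtain ⟨P', hP', hle, hover⟩ : ∃ P' : Ideal BA, P'.IsPrime ∧ P ≤ P' ∧ P'.LiesOver t' := by
      by_contra hc
      push Not at hc
      exact hpure t A' BA NA fm r t' P hnbhd ⟨inferInstance, hfm, hxt, ht', inferInstance, hass,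
        fun P' hP' hle hover => hc P' hP' hle hover⟩
    obtain ⟨i, Q', hQ', hQ'P⟩ := hcov P' hover
    haveI := hQ'
    haveI : Q'.LiesOver P' := ⟨hQ'P.symm⟩
    obtain ⟨Q, -, hQ, hQP⟩ := Ideal.exists_ideal_le_liesOver_of_le (p := P) (q := P') Q' hle
    exact Set.mem_iUnion.2 ⟨i, (⟨Q, hQ⟩ : PrimeSpectrum (C i)), PrimeSpectrum.ext hQP.over.symm⟩
  refine ⟨A', inferInstance, inferInstance, t', inferInstance, het, ht', g, k, C, inferInstance, inferInstance, Nc,
    inferInstance, inferInstance, hg, fun i => ⟨inferInstance, inferInstance, (hC i).2.2⟩, fun m T _ _ _ _ hu => ?_⟩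
  haveI : Algebra.IsPushout A A' B BA := inferInstance
  refine (P_spec_iff N m T).trans ((ge_trans (A := A) (A₁ := A') T fm hfm m).symm.trans ((P_spec_iff NA m T).symm.trans ?_))
  have hiso : ∀ i, Nonempty ((Scheme.Modules.pullback (h i)).obj F' ≅ mt (C i) (Nc i)) := fun i => by
    exact ⟨(pullback_mt (algebraMap BA (C i)) inferInstance (Algebra.algebra_ext _ _ fun _ => rfl) NA).some ≪≫
      (tilde.functor _).mapIso (hC i).2.1.equiv.toModuleIso⟩
  have hq : ∀ i, FpqcFun4.P (h i ≫ f') ((Scheme.Modules.pullback (h i)).obj F') m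
        (Over.mk (Spec.map (CommRingCat.ofHom (algebraMap A' T)))) ↔ FlatGE4.GE (A := A') T m (C i) (Nc i) := fun i => by
    haveI : LocallyOfFiniteType (fA A' (C i)) := locallyOfFiniteType_fA A' (C i)
    haveI : Coh.IsQCoh (mt (C i) (Nc i)) := inferInstanceAs (Coh.IsQCoh (tilde _))
    haveI : Coh.IsQCoh ((Scheme.Modules.pullback (h i)).obj F') := M1.isQCoh_pullback _ inferInstance
    have he : h i ≫ f' = fA A' (C i) := by
      show Spec.map _ ≫ Spec.map _ = Spec.map _
      rw [← Spec.map_comp, ← CommRingCat.ofHom_comp, ← IsScalarTower.algebraMap_eq]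
    obtain ⟨e⟩ := hiso i
    refine (P_hom_congr he).trans (Iff.trans ⟨P_of_iso e, P_of_iso e.symm⟩ (P_spec_iff (Nc i) m T))
  constructor
  · exact fun hP i => (hq i).1 (FnEt4.P_pullback f' F' (h i) _ m hP)
  · intro hT
    refine P_of_family f' F' (M1.isFP_isFT hFp) (fun i => Spec (CommRingCat.of (C i))) h m _ (fun y hy hyT => ?_)
      fun i => (hq i).2 (hT i)
    obtain ⟨w, hw⟩ := hyT
    refine Set.mem_iUnion.1 (hgU y hy ?_)
    rw [← hw]
    exact fun hgw => (w : PrimeSpectrum T).2.ne_top (Ideal.eq_top_of_isUnit_mem _ hgw hu)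

/-- The transcendence degree in a fibre is bounded by the number of generators. -/
theorem exists_bound [Coh.IsQCoh (mt B N)] [LocallyOfFiniteType (fA A B)] :
    ∃ m : ℕ, FpqcFun4.P (fA A B) (mt B N) m (Over.mk (𝟙 (Spec (CommRingCat.of A)))) := by
  obtain ⟨k, φ, hφ⟩ := Algebra.FiniteType.iff_quotient_mvPolynomial''.1 (inferInstance : Algebra.FiniteType A B)
  refine ⟨k + 1, ?_⟩
  have key : FlatGE4.GE (A := A) A (k + 1) B N := by
    intro t Q _ _ _ _
    let B' := A ⊗[A] B
    obtain ⟨ψ, -, hψ⟩ := FlatGE4.exists_fibreHom t Q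
    letI : Algebra t.ResidueField Q.ResidueField :=
      (Ideal.ResidueField.mapₐ t Q (Algebra.ofId A B') ‹Q.LiesOver t›.over).toRingHom.toAlgebra
    haveI : (RingHom.ker ψ).IsPrime := RingHom.ker_isPrime _
    haveI : Algebra.FiniteType t.ResidueField (t.Fiber B') :=
      inferInstanceAs (Algebra.FiniteType t.ResidueField (t.ResidueField ⊗[A] B'))
    haveI : Algebra.FiniteType t.ResidueField (t.Fiber B' ⧸ RingHom.ker ψ) :=
      Algebra.FiniteType.of_surjective (Ideal.Quotient.mkₐ t.ResidueField _) Ideal.Quotient.mk_surjective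
    let σ : MvPolynomial (Fin k) t.ResidueField →ₐ[t.ResidueField] t.Fiber B' ⧸ RingHom.ker ψ :=
      (Ideal.Quotient.mkₐ t.ResidueField _).comp
        ((Algebra.TensorProduct.map (AlgHom.id t.ResidueField t.ResidueField)
          ((Algebra.TensorProduct.lid A B).symm.toAlgHom.comp φ)).comp
          (MvPolynomial.algebraTensorAlgEquiv A t.ResidueField).symm.toAlgHom)
    have hσ : Function.Surjective σ := by
      intro z
      obtain ⟨z, rfl⟩ := Ideal.Quotient.mk_surjective z
      obtain ⟨w, rfl⟩ := TensorProduct.map_surjective (g := LinearMap.id (R := A) (M := t.ResidueField))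
        (g' := ((Algebra.TensorProduct.lid A B).symm.toAlgHom.comp φ).toLinearMap) Function.surjective_id
        ((Algebra.TensorProduct.lid A B).symm.surjective.comp hφ) z
      obtain ⟨v, rfl⟩ := (MvPolynomial.algebraTensorAlgEquiv A t.ResidueField (σ := Fin k)).symm.surjective w
      exact ⟨v, rfl⟩
    have h1 := ringKrullDim_le_of_surjective σ.toRingHom hσ
    rw [MvPolynomial.ringKrullDim_of_isNoetherianRing, ringKrullDim_eq_zero_of_field, zero_add,
      VarDim.ringKrullDim_eq_tdeg t.ResidueField] at h1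
    have h2 : VarDim.tdeg t.ResidueField (t.Fiber B' ⧸ RingHom.ker ψ) ≤ Nat.card (Fin k) := by exact_mod_cast h1
    show FlatGE4.tdg t Q < _
    rw [hψ, Nat.cast_lt]
    exact Nat.lt_succ_of_le (h2.trans_eq (Nat.card_fin k))
  have h := (P_spec_iff N (k + 1) A).2 key
  refine P_congr ?_ h
  rw [Algebra.algebraMap_self, CommRingCat.ofHom_id, Spec.map_id]

end Groth.Agent.PureRep4
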