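import Groth.Agent.Lib.PureRep4.Affine
import Mathlib

/-!
# The condition under base change, and charts from a family
-/

set_option autoImplicit false
set_option linter.style.haveILetI false
set_option maxSynthPendingDepth 3
set_option backward.isDefEq.respectTransparency false
set_option backward.isDefEq.respectTransparency.types false

universe u

open CategoryTheory CategoryTheory.Limits AlgebraicGeometry Opposite
open scoped TensorProduct

attribute [local instance] Algebra.TensorProduct.rightAlgebra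

noncomputable section

namespace Groth.Agent.PureRep4

section base

variable {X S Y : Scheme.{u}} (f : X ⟶ S) [LocallyOfFiniteType f] (F : X.Modules) [Coh.IsQCoh F] (q : Y ⟶ S)
  [LocallyOfFiniteType (pullback.snd f q)] [Coh.IsQCoh ((Scheme.Modules.pullback (pullback.fst f q)).obj F)]

theorem P_baseChange {T : Scheme.{u}} (x : T ⟶ Y) (n : ℕ) :
    FpqcFun4.P (pullback.snd f q) ((Scheme.Modules.pullback (pullback.fst f q)).obj F) n (Over.mk x) ↔
      FpqcFun4.P f F n (Over.mk (x ≫ q)) := by
  let W : Over Y := Over.mk x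
  let W₀ : Over S := Over.mk (x ≫ q)
  let f' := pullback.snd f q
  let g' := pullback.fst f q
  let F' := (Scheme.Modules.pullback g').obj F
  have hp : IsPullback (pullback.fst f' W.hom ≫ g') (PicF.XTproj f' W) f W₀.hom := by
    exact (((IsPullback.of_hasPullback f' W.hom).flip).paste_vert (IsPullback.of_hasPullback f q).flip).flip
  let k : PicF.XT f' W ⟶ PicF.XT f W₀ := hp.isoPullback.hom
  have hk1 : k ≫ pullback.fst f W₀.hom = pullback.fst f' W.hom ≫ g' := hp.isoPullback_hom_fst
  have hk2 : k ≫ PicF.XTproj f W₀ = PicF.XTproj f' W := hp.isoPullback_hom_snd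
  let e : (Scheme.Modules.pullback k).obj (FGA.ET f F W₀) ≅ FGA.ET f' F' W :=
    (Scheme.Modules.pullbackComp k (pullback.fst f W₀.hom)).app F ≪≫ (Scheme.Modules.pullbackCongr hk1).app F ≪≫
      ((Scheme.Modules.pullbackComp (pullback.fst f' W.hom) g').app F).symm
  have hflat : ∀ z, FlatMod.IsFlatOverAt (PicF.XTproj f' W) (FGA.ET f' F' W) z ↔
      FlatMod.IsFlatOverAt (PicF.XTproj f W₀) (FGA.ET f F W₀) (k z) := fun z => by
    have h0 := FlatH4.isFlatOverAt_pullback_comp_iff k (PicF.XTproj f W₀) (FGA.ET f F W₀) z (Flat.stalkMap k z)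
    rw [hk2] at h0
    exact ⟨fun hz => h0.1 (SchDom.isFlatOverAt_of_iso _ e.symm z hz), fun hz => SchDom.isFlatOverAt_of_iso _ e z (h0.2 hz)⟩
  haveI : LocallyOfFiniteType (PicF.XTproj f W₀) := MorphismProperty.pullback_snd _ _ inferInstance
  haveI : LocallyOfFiniteType (PicF.XTproj f' W) := MorphismProperty.pullback_snd _ _ inferInstance
  have hrd : ∀ z, FibDim14.rd (PicF.XTproj f' W) z = FibDim14.rd (PicF.XTproj f W₀) (k z) := fun z => by
    have h := FnEt4.rd_comp_etale k (PicF.XTproj f W₀) z
    simp only [hk2] at h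
    exact h
  constructor
  · intro h z hz
    obtain ⟨z, rfl⟩ := k.homeomorph.surjective z
    have h1 := (FpqcFun4.trdeg_lt_iff (PicF.XTproj f' W) n z).1 (h z fun hfl => hz ((hflat z).1 hfl))
    rw [hrd] at h1
    exact (FpqcFun4.trdeg_lt_iff (PicF.XTproj f W₀) n _).2 h1
  · intro h z hz
    have h1 := (FpqcFun4.trdeg_lt_iff (PicF.XTproj f W₀) n _).1 (h (k z) fun hfl => hz ((hflat z).2 hfl))
    rw [← hrd] at h1
    exact (FpqcFun4.trdeg_lt_iff (PicF.XTproj f' W) n _).2 h1

theorem repOn_of_baseChange {n : ℕ}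
    (h : RepOn (pullback.snd f q) ((Scheme.Modules.pullback (pullback.fst f q)).obj F) n (𝟙 Y)) :
    RepOn f F n q := by
  obtain ⟨Z, i, h1, h2, h3, hZ⟩ := h
  refine ⟨Z, i, h1, h2, h3, fun T x => (P_baseChange f F q x n).symm.trans ?_⟩
  have := hZ T x
  rwa [Category.comp_id] at this

end base

variable {A : Type u} [CommRing A] {X : Scheme.{u}} (f : X ⟶ Spec (CommRingCat.of A)) [LocallyOfFinitePresentation f]
  [QuasiCompact f] [QuasiSeparated f] (F : X.Modules) [Coh.IsQCoh F]

set_option maxHeartbeats 1000000 in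
/-- A chart from an etale family which covers the closed fibre, where the relative assassin specialises. -/
theorem hasChart_of_family (hF : CohB1.IsFP F) (t : Ideal A) [t.IsPrime] (A' : Type u) [CommRing A'] [Algebra A A'] (t' : Ideal A') [t'.IsPrime]
    [Algebra.Etale A A'] [t'.LiesOver t] {k : ℕ} (C : Fin k → Type u) [∀ i, CommRing (C i)] [∀ i, Algebra A' (C i)]
    (N : Fin k → Type u) [∀ i, AddCommGroup (N i)] [∀ i, Module (C i) (N i)]
    [∀ i, Algebra.FinitePresentation A' (C i)] [∀ i, Module.FinitePresentation (C i) (N i)]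
    (hD : ∀ i, Nonempty (FlatCA.CompleteDevissage A' (C i) (N i) t'))
    (h : ∀ i, Spec (CommRingCat.of (C i)) ⟶ pullback f (fA A A')) [∀ i, Etale (h i)]
    (hf : ∀ i, h i ≫ pullback.snd f (fA A A') = fA A' (C i))
    (hiso : ∀ i, Nonempty ((Scheme.Modules.pullback (h i)).obj ((Scheme.Modules.pullback (pullback.fst f (fA A A'))).obj F) ≅
      mt (C i) (N i)))
    (hcov : ∀ x, pullback.snd f (fA A A') x = (⟨t', inferInstance⟩ : PrimeSpectrum A') → ∃ i, x ∈ Set.range (h i))
    (hpure : ∀ x ∈ MoreMor.relAss (pullback.snd f (fA A A')) ((Scheme.Modules.pullback (pullback.fst f (fA A A'))).obj F),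
      (pullback.snd f (fA A A') x : PrimeSpectrum A').asIdeal ≤ t' →
      ∃ x', x ⤳ x' ∧ pullback.snd f (fA A A') x' = (⟨t', inferInstance⟩ : PrimeSpectrum A')) :
    HasChart f F t := by
  classical
  let f' := pullback.snd f (fA A A')
  let F' := (Scheme.Modules.pullback (pullback.fst f (fA A A'))).obj F
  haveI : Coh.IsQCoh F' := M1.isQCoh_pullback _ inferInstance
  haveI : LocallyOfFinitePresentation f' := MorphismProperty.pullback_snd _ _ inferInstance
  haveI : QuasiCompact f' := MorphismProperty.pullback_snd _ _ inferInstance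
  haveI : QuasiSeparated f' := MorphismProperty.pullback_snd _ _ inferInstance
  haveI : LocallyOfFiniteType f' := inferInstance
  have hFp : CohB1.IsFP F' := M1.isFP_pullback _ hF
  let U : (pullback f (fA A A')).Opens := ⟨⋃ i, Set.range (h i), isOpen_iUnion fun i => (h i).isOpenMap.isOpen_range⟩
  have hUc : IsCompact (U : Set ↥(pullback f (fA A A'))) := isCompact_iUnion fun i => isCompact_range (h i).continuous
  haveI : CompactSpace U.toScheme := isCompact_iff_compactSpace.mp hUc
  haveI : QuasiCompact (U.ι ≫ f') := (quasiCompact_iff_compactSpace (U.ι ≫ f')).2 inferInstance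
  obtain ⟨g, hg, hgU⟩ := exists_away_relAss f' F' hFp U (⟨t', inferInstance⟩ : PrimeSpectrum A') fun x hx hxt => by
    obtain ⟨x', hxx', hx'⟩ := hpure x hx hxt
    exact hxx'.mem_open U.isOpen (Set.mem_iUnion.2 (hcov x' hx'))
  refine ⟨A', inferInstance, inferInstance, t', inferInstance, inferInstance, inferInstance, g, k, C, inferInstance,
    inferInstance, N, inferInstance, inferInstance, hg, fun i => ⟨inferInstance, inferInstance, hD i⟩,
    fun m T _ _ _ _ hu => ?_⟩
  have hAT : fA A' T ≫ fA A A' = Spec.map (CommRingCat.ofHom (algebraMap A T)) := by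
    rw [← Spec.map_comp, ← CommRingCat.ofHom_comp, ← IsScalarTower.algebraMap_eq]
  refine (⟨P_congr hAT.symm, P_congr hAT⟩ : _ ↔ FpqcFun4.P f F m (Over.mk (fA A' T ≫ fA A A'))).trans
    ((P_baseChange f F (fA A A') (fA A' T) m).symm.trans ?_)
  have hq : ∀ i, FpqcFun4.P (h i ≫ f') ((Scheme.Modules.pullback (h i)).obj F') m (Over.mk (fA A' T)) ↔
      FlatGE4.GE (A := A') T m (C i) (N i) := fun i => by
    haveI : LocallyOfFiniteType (fA A' (C i)) := locallyOfFiniteType_fA A' (C i)
    haveI : Coh.IsQCoh (mt (C i) (N i)) := inferInstanceAs (Coh.IsQCoh (tilde _))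
    haveI : Coh.IsQCoh ((Scheme.Modules.pullback (h i)).obj F') := M1.isQCoh_pullback _ inferInstance
    obtain ⟨e⟩ := hiso i
    exact (P_hom_congr (hf i)).trans (Iff.trans ⟨P_of_iso e, P_of_iso e.symm⟩ (P_spec_iff (N i) m T))
  constructor
  · exact fun hP i => (hq i).1 (FnEt4.P_pullback f' F' (h i) _ m hP)
  · intro hT
    refine P_of_family f' F' (M1.isFP_isFT hFp) (fun i => Spec (CommRingCat.of (C i))) h m _ (fun y hy hyT => ?_)
      fun i => (hq i).2 (hT i)
    obtain ⟨w, hw⟩ := hyT
    refine Set.mem_iUnion.1 (hgU y hy ?_)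
    rw [← hw]
    exact fun hgw => (w : PrimeSpectrum T).2.ne_top (Ideal.eq_top_of_isUnit_mem _ hgw hu)

end Groth.Agent.PureRep4
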