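import Groth.Agent.Lib.PureRep4.Rep
import Groth.Agent.Lib.FlatGE4.Transfer
import Groth.Agent.Lib.RelPCS8.FlatTilde
import Groth.Agent.Lib.ModM1.Coh
import Groth.Agent.Lib.FnEt4.Basic
import Mathlib

/-!
# The condition over affine schemes in ring form
-/

set_option autoImplicit false
set_option linter.style.haveILetI false
set_option maxSynthPendingDepth 3
set_option backward.isDefEq.respectTransparency false
set_option backward.isDefEq.respectTransparency.types false

universe u

open CategoryTheory CategoryTheory.Limits AlgebraicGeometry Opposite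
open scoped TensorProduct

attribute [local instance] Algebra.TensorProduct.rightAlgebra

noncomputable section

namespace Groth.Agent.PureRep4

/-- The residual transcendence degree of a map of spectra is that of the residue fields of the primes. -/
theorem rdeg_spec {T R : Type u} [CommRing T] [CommRing R] [Algebra T R] (t : Ideal T) (Q : PrimeSpectrum R)
    [t.IsPrime] [h : Q.asIdeal.LiesOver t] :
    FibDim14.rdeg (Spec.map (CommRingCat.ofHom (algebraMap T R))) Q = FlatGE4.tdg t Q.asIdeal := by
  let f := Spec.map (CommRingCat.ofHom (algebraMap T R))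
  let y : Spec (CommRingCat.of T) := f Q
  obtain rfl : t = y.asIdeal := h.over
  let i := Scheme.Spec.residueFieldIso (CommRingCat.of T) y
  let j := Scheme.Spec.residueFieldIso (CommRingCat.of R) Q
  letI : Algebra y.asIdeal.ResidueField Q.asIdeal.ResidueField :=
    (Ideal.ResidueField.mapₐ y.asIdeal Q.asIdeal (Algebra.ofId T R) h.over).toRingHom.toAlgebra
  letI : Algebra ((Spec (CommRingCat.of T)).residueField y) ((Spec (CommRingCat.of R)).residueField Q) :=
    (f.residueFieldMap Q).hom.toAlgebra
  letI : Algebra y.asIdeal.ResidueField ((Spec (CommRingCat.of T)).residueField y) := i.inv.hom.toAlgebra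
  letI : Algebra y.asIdeal.ResidueField ((Spec (CommRingCat.of R)).residueField Q) :=
    (i.inv ≫ f.residueFieldMap Q).hom.toAlgebra
  haveI : IsScalarTower y.asIdeal.ResidueField ((Spec (CommRingCat.of T)).residueField y)
      ((Spec (CommRingCat.of R)).residueField Q) := IsScalarTower.of_algebraMap_eq fun _ => rfl
  haveI : Algebra.IsAlgebraic y.asIdeal.ResidueField ((Spec (CommRingCat.of T)).residueField y) := ⟨fun w => by
    rw [show w = algebraMap y.asIdeal.ResidueField _ (i.hom w) from (ConcreteCategory.congr_hom i.hom_inv_id w).symm]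
    exact isAlgebraic_algebraMap _⟩
  have hsq : i.inv ≫ f.residueFieldMap Q =
      CommRingCat.ofHom (algebraMap y.asIdeal.ResidueField Q.asIdeal.ResidueField) ≫ j.inv := by
    refine CommRingCat.hom_ext (Ideal.ResidueField.ringHom_ext (RingHom.ext fun a => ?_))
    have h1 : j.inv (algebraMap R Q.asIdeal.ResidueField (algebraMap T R a)) = f.residueFieldMap Q
        (i.inv (algebraMap T y.asIdeal.ResidueField a)) := by
      have hT := ConcreteCategory.congr_hom (Scheme.Spec.algebraMap_residueFieldIso_inv (CommRingCat.of T) y) a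
      have hR := ConcreteCategory.congr_hom (Scheme.Spec.algebraMap_residueFieldIso_inv (CommRingCat.of R) Q) (algebraMap T R a)
      refine hR.trans ?_
      refine Eq.trans ?_ (congrArg (f.residueFieldMap Q) hT).symm
      show _ = f.residueFieldMap Q ((Spec (CommRingCat.of T)).Γevaluation (f Q) ((Scheme.ΓSpecIso (CommRingCat.of T)).inv a))
      rw [Scheme.Γevaluation_naturality_apply]
      exact congrArg ((Spec (CommRingCat.of R)).Γevaluation Q) (ConcreteCategory.congr_hom
        (Scheme.ΓSpecIso_inv_naturality (CommRingCat.ofHom (algebraMap T R))) a)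
    exact h1.symm.trans (congrArg j.inv
      (((Ideal.ResidueField.mapₐ y.asIdeal Q.asIdeal (Algebra.ofId T R) h.over).commutes a).trans
        (IsScalarTower.algebraMap_apply T R Q.asIdeal.ResidueField a)).symm)
  let e : Q.asIdeal.ResidueField ≃ₐ[y.asIdeal.ResidueField] ((Spec (CommRingCat.of R)).residueField Q) :=
    { j.symm.commRingCatIsoToRingEquiv with
      commutes' := fun w => (ConcreteCategory.congr_hom hsq w).symm }
  show Algebra.trdeg ((Spec (CommRingCat.of T)).residueField y) ((Spec (CommRingCat.of R)).residueField Q) =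
    Algebra.trdeg y.asIdeal.ResidueField Q.asIdeal.ResidueField
  rw [e.trdeg_eq, ← trdeg_add_eq y.asIdeal.ResidueField ((Spec (CommRingCat.of T)).residueField y)
    (A := (Spec (CommRingCat.of R)).residueField Q),
    trdeg_eq_zero (R := y.asIdeal.ResidueField) (A := (Spec (CommRingCat.of T)).residueField y), zero_add]

/-- Flatness of a tilde module at a point, for any presentation of the algebra structure. -/
theorem isFlatOverAt_spec_iff {T R : Type u} [CommRing T] [CommRing R] (σ : T →+* R) (alg : Algebra T R)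
    (hal : alg = σ.toAlgebra) (N : ModuleCat.{u} (CommRingCat.of R)) (Q : PrimeSpectrum R) :
    letI : Module R N := N.isModule
    letI : Module T N := Module.compHom N (@algebraMap T R _ _ alg)
    haveI : @IsScalarTower T R N alg.toSMul _ _ := IsScalarTower.of_algebraMap_smul fun _ _ => rfl
    (FlatMod.IsFlatOverAt (Spec.map (CommRingCat.ofHom σ)) ((tilde.functor _).obj N) Q ↔
      FlatCA.FlatAt T Q.asIdeal N) := by
  subst hal
  exact RelPCS8.FlatTilde.isFlatOverAt_iff (CommRingCat.ofHom σ) N Q

variable {A B : Type u} [CommRing A] [CommRing B] [Algebra A B] [Algebra.FiniteType A B]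
  (M : Type u) [AddCommGroup M] [Module B M]

/-- The structure map. -/
abbrev fA (A B : Type u) [CommRing A] [CommRing B] [Algebra A B] :
    Spec (CommRingCat.of B) ⟶ Spec (CommRingCat.of A) := Spec.map (CommRingCat.ofHom (algebraMap A B))

/-- The module. -/
abbrev mt (B : Type u) [CommRing B] (M : Type u) [AddCommGroup M] [Module B M] :
    (Spec (CommRingCat.of B)).Modules := tilde (R := CommRingCat.of B) (ModuleCat.of B M)

theorem P_spec_iff [LocallyOfFiniteType (fA A B)] [Coh.IsQCoh (mt B M)] (n : ℕ) (T : Type u) [CommRing T] [Algebra A T] :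
    FpqcFun4.P (fA A B) (mt B M) n (Over.mk (Spec.map (CommRingCat.ofHom (algebraMap A T)))) ↔
      FlatGE4.GE (A := A) T n B M := by
  let f := fA A B
  let W : Over (Spec (CommRingCat.of A)) := Over.mk (Spec.map (CommRingCat.ofHom (algebraMap A T)))
  let R := T ⊗[A] B
  let N : ModuleCat.{u} (CommRingCat.of B) := ModuleCat.of B M
  let j : Spec (CommRingCat.of R) ⟶ PicF.XT f W := (pullbackSymmetry f W.hom ≪≫ pullbackSpecIso A T B).inv
  haveI : IsIso j := inferInstanceAs (IsIso (pullbackSymmetry f W.hom ≪≫ pullbackSpecIso A T B).inv)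
  let φ : CommRingCat.of B ⟶ CommRingCat.of R :=
    CommRingCat.ofHom (Algebra.TensorProduct.includeRight : B →ₐ[A] R).toRingHom
  have hj : j ≫ pullback.fst f W.hom = Spec.map φ := by
    simp only [j, Iso.trans_inv, Category.assoc]
    exact (congrArg _ (pullbackSymmetry_inv_comp_fst _ _)).trans (pullbackSpecIso_inv_snd A T B)
  have hj' : j ≫ PicF.XTproj f W = Spec.map (CommRingCat.ofHom (algebraMap T R)) := by
    show j ≫ pullback.snd f W.hom = _
    simp only [j, Iso.trans_inv, Category.assoc]
    exact (congrArg _ (pullbackSymmetry_inv_comp_snd _ _)).trans (pullbackSpecIso_inv_fst A T B)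
  let NR := (ModuleCat.extendScalars φ.hom).obj N
  let e : (Scheme.Modules.pullback j).obj (FGA.ET f (mt B M) W) ≅ tilde NR :=
    (Scheme.Modules.pullbackComp j (pullback.fst f W.hom)).app (mt B M) ≪≫
      (Scheme.Modules.pullbackCongr hj).app (mt B M) ≪≫ M1.tildePullbackObjIso φ N
  haveI : Algebra.FiniteType T R := inferInstanceAs (Algebra.FiniteType T (T ⊗[A] B))
  haveI : LocallyOfFiniteType (Spec.map (CommRingCat.ofHom (algebraMap T R))) :=
    (HasRingHomProperty.Spec_iff (P := @LocallyOfFiniteType)).2 (RingHom.finiteType_algebraMap.2 inferInstance)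
  haveI : LocallyOfFiniteType (PicF.XTproj f W) := MorphismProperty.pullback_snd _ _ inferInstance
  have hflat : ∀ Q : PrimeSpectrum R, FlatMod.IsFlatOverAt (PicF.XTproj f W) (FGA.ET f (mt B M) W) (j Q) ↔
      FlatCA.FlatAt T Q.asIdeal ((T ⊗[A] B) ⊗[B] M) := fun Q => by
    have h0 := FlatH4.isFlatOverAt_pullback_comp_iff j (PicF.XTproj f W) (FGA.ET f (mt B M) W) Q (Flat.stalkMap j Q)
    rw [hj'] at h0
    refine h0.symm.trans ?_
    refine (⟨SchDom.isFlatOverAt_of_iso _ e Q, SchDom.isFlatOverAt_of_iso _ e.symm Q⟩ :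
      FlatMod.IsFlatOverAt (Spec.map (CommRingCat.ofHom (algebraMap T R)))
          ((Scheme.Modules.pullback j).obj (FGA.ET f (mt B M) W)) Q ↔
        FlatMod.IsFlatOverAt (Spec.map (CommRingCat.ofHom (algebraMap T R))) ((tilde.functor _).obj NR) Q).trans ?_
    letI : Module T NR := Module.compHom NR (algebraMap T R)
    haveI : IsScalarTower T R NR := IsScalarTower.of_algebraMap_smul fun _ _ => rfl
    let e₀ : (NR : Type u) ≃ₗ[R] ((T ⊗[A] B) ⊗[B] M) := LinearEquiv.refl R _
    refine (isFlatOverAt_spec_iff (algebraMap T R) inferInstance (Algebra.algebra_ext _ _ fun _ => rfl) NR Q).trans ?_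
    exact ⟨fun h => RG4.flatAt_congr (R := T) Q.asIdeal e₀ h, fun h => RG4.flatAt_congr (R := T) Q.asIdeal e₀.symm h⟩
  have hrd : ∀ (Q : PrimeSpectrum R) (t : Ideal T) [t.IsPrime] [Q.asIdeal.LiesOver t],
      FibDim14.rd (PicF.XTproj f W) (j Q) < n ↔ FlatGE4.tdg t Q.asIdeal < (n : Cardinal.{u}) := fun Q t _ _ => by
    rw [← rdeg_spec t Q, FibDim14.rdeg_eq_rd, Nat.cast_lt, ← FnEt4.rd_comp_etale j (PicF.XTproj f W) Q]
    simp only [hj']
  constructor
  · intro h t Q _ _ hQt hQ
    exact (hrd ⟨Q, ‹_›⟩ t).1 ((FpqcFun4.trdeg_lt_iff (PicF.XTproj f W) n _).1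
      (h (j ⟨Q, ‹_›⟩) fun hf => hQ ((hflat ⟨Q, ‹_›⟩).1 hf)))
  · intro h z hz
    obtain ⟨Q, rfl⟩ := j.homeomorph.surjective z
    haveI : Q.asIdeal.LiesOver (Q.asIdeal.comap (algebraMap T R)) := ⟨rfl⟩
    exact (FpqcFun4.trdeg_lt_iff (PicF.XTproj f W) n _).2
      ((hrd Q (Q.asIdeal.comap (algebraMap T R))).2 (h _ _ fun hf => hz ((hflat Q).2 hf)))

end Groth.Agent.PureRep4
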