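import Groth.Agent.Lib.PureRep4.Bridge
import Groth.Agent.Lib.Dev4.RelAssLocusScheme
import Groth.Agent.Lib.Dev4.RelAssBC
import Mathlib

/-!
# Families reaching the relative assassin, and their spreading out
-/

set_option autoImplicit false
set_option linter.style.haveILetI false
set_option maxSynthPendingDepth 3
set_option backward.isDefEq.respectTransparency false
set_option backward.isDefEq.respectTransparency.types false

universe u

open CategoryTheory CategoryTheory.Limits AlgebraicGeometry Opposite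
open scoped TensorProduct

attribute [local instance] Algebra.TensorProduct.rightAlgebra

noncomputable section

namespace Groth.Agent.PureRep4

/-- `F_n` over `T` descends from an etale family reaching the relative assassin over the image of `T`. -/
theorem P_of_family {X S : Scheme.{u}} (f : X ⟶ S) [LocallyOfFiniteType f] (F : X.Modules) [Coh.IsQCoh F]
    (hF : CohB1.IsFT F) {ι : Type*} (X' : ι → Scheme.{u}) (h : ∀ i, X' i ⟶ X) [∀ i, Etale (h i)] (n : ℕ) (T : Over S)
    (hAss : ∀ y ∈ MoreMor.relAss f F, f y ∈ Set.range T.hom → ∃ i, y ∈ Set.range (h i))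
    (hT : ∀ i, FpqcFun4.P (h i ≫ f) ((Scheme.Modules.pullback (h i)).obj F) n T) : FpqcFun4.P f F n T := by
  intro x hx
  haveI : LocallyOfFiniteType (PicF.XTproj f T) := MorphismProperty.pullback_snd _ _ inferInstance
  haveI : Coh.IsQCoh (FGA.ET f F T) := M1.isQCoh_pullback _ inferInstance
  obtain ⟨y, hy, hyx, hyf, hny⟩ :=
    FnEt4.exists_relAss_nonflat (PicF.XTproj f T) (FGA.ET f F T) (M1.isFT_pullback _ hF) hx
  obtain ⟨i, x', hx'⟩ := hAss _ ((Dev4.relAss_baseChange (IsPullback.of_hasPullback f T.hom) F).1 y hy)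
    ⟨pullback.snd f T.hom y, by rw [← Scheme.Hom.comp_apply, ← pullback.condition, Scheme.Hom.comp_apply]⟩
  obtain ⟨z, hz, -⟩ := Scheme.exists_preimage_of_isPullback (FnEt4.isPullback_map f (h i) T) y x' hx'.symm
  haveI := FnEt4.etale_map f (h i) T
  haveI : LocallyOfFiniteType (PicF.XTproj (h i ≫ f) T) := MorphismProperty.pullback_snd _ _ inferInstance
  have h1 := (FpqcFun4.trdeg_lt_iff (PicF.XTproj (h i ≫ f) T) n z).1
    (hT i z fun hfl => hny (hz ▸ (FnEt4.isFlatOverAt_map_iff f F (h i) T z).1 hfl))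
  refine (FpqcFun4.trdeg_lt_iff (PicF.XTproj f T) n x).2 ?_
  have h2 := FnEt4.rd_comp_etale (FnEt4.map f (h i) T) (PicF.XTproj f T) z
  simp only [FnEt4.map_proj] at h2
  rw [h2, hz] at h1
  by_cases he : y = x
  · rwa [← he]
  · exact lt_trans (FibDim14.rd_lt_of_specializes (PicF.XTproj f T) hyx he hyf) h1

/-- The relative assassin of a module over an affine scheme. -/
theorem mem_relAss_spec {R C : Type u} [CommRing R] [CommRing C] [Algebra R C] [Algebra.FiniteType R C]
    (N : Type u) [AddCommGroup N] [Module C N] [Module R N] [IsScalarTower R C N] (p : Ideal R) [p.IsPrime]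
    (q : PrimeSpectrum C) [hq : q.asIdeal.LiesOver p] :
    q ∈ MoreMor.relAss (fA R C) (mt C N) ↔
      FlatCA.fiberIdeal p q.asIdeal ∈ associatedPrimes (p.Fiber C) (FlatCA.fiberMod p C N) := by
  rw [Dev4.fiberIdeal_mem_associatedPrimes_iff p N q.asIdeal]
  let σ := CommRingCat.ofHom (algebraMap R C)
  let y : PrimeSpectrum R := fA R C q
  obtain rfl : p = y.asIdeal := hq.over
  let L : Type u := (Spec (CommRingCat.of C)).presheaf.stalk q
  let A : Type u := (Spec (CommRingCat.of R)).presheaf.stalk y
  letI : Algebra C L := (StructureSheaf.toStalk (CommRingCat.of C) q).hom.toAlgebra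
  letI : Algebra R A := (StructureSheaf.toStalk (CommRingCat.of R) y).hom.toAlgebra
  haveI : IsLocalization.AtPrime L q.asIdeal :=
    (inferInstance : IsLocalization.AtPrime ((Spec.structureSheaf (CommRingCat.of C)).presheaf.stalk q) q.asIdeal)
  haveI : IsLocalization.AtPrime A y.asIdeal :=
    (inferInstance : IsLocalization.AtPrime ((Spec.structureSheaf (CommRingCat.of R)).presheaf.stalk y) y.asIdeal)
  let M := ((mt C N).presheaf.stalk q : Type u)
  letI : Module C M := Module.compHom M (algebraMap C L)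
  haveI : IsScalarTower C L M := IsScalarTower.of_algebraMap_smul fun _ _ => rfl
  let g : N →ₗ[C] M :=
    { toFun := fun m => (tilde.toStalk (R := CommRingCat.of C) (ModuleCat.of C N) q).hom m
      map_add' := fun a b => map_add _ a b
      map_smul' := fun c m => (tilde.toStalk (R := CommRingCat.of C) (ModuleCat.of C N) q).hom.map_smul c m }
  haveI : IsLocalizedModule q.asIdeal.primeCompl g := by
    haveI h0 : IsLocalizedModule q.asIdeal.primeCompl (tilde.toStalk (R := CommRingCat.of C) (ModuleCat.of C N) q).hom :=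
      inferInstanceAs (IsLocalizedModule q.asIdeal.primeCompl (StructureSheaf.toStalkₗ ..))
    exact h0
  let P' : Submodule C N := (y.asIdeal.map (algebraMap R C)) • ⊤
  have hmax : Ideal.map ((fA R C).stalkMap q).hom (IsLocalRing.maximalIdeal A) =
      (y.asIdeal.map (algebraMap R C)).map (algebraMap C L) := by
    rw [← IsLocalization.AtPrime.map_eq_maximalIdeal y.asIdeal A, Ideal.map_map, Ideal.map_map]
    refine congrArg (fun φ : R →+* L => y.asIdeal.map φ) (RingHom.ext fun r => ?_)
    exact RelPCS8.FlatTilde.toStalk_comp σ q r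
  have hP : P'.localized' L q.asIdeal.primeCompl g =
      Ideal.map ((fA R C).stalkMap q).hom (IsLocalRing.maximalIdeal A) • ⊤ := by
    rw [Submodule.localized'_smul, Ideal.localized'_eq_map, Submodule.localized'_top, hmax]
  refine Iff.trans ?_ ((Dev4.maximal_mem_ass_iff (L := L) q.asIdeal
    (P'.toLocalizedQuotient' L q.asIdeal.primeCompl g)).trans (Dev4.isWk_quot_iff y.asIdeal N q.asIdeal))
  rw [hP]
  rfl

/-- Where the relative assassin over the generalisations of a point lies in a quasi-compact open, it does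
so over a basic open neighbourhood. -/
theorem exists_away_relAss {R : CommRingCat.{u}} {X : Scheme.{u}} (f : X ⟶ Spec R) [LocallyOfFinitePresentation f]
    [QuasiCompact f] [QuasiSeparated f] (F : X.Modules) [Coh.IsQCoh F] (hFp : CohB1.IsFP F) (U : X.Opens)
    [QuasiCompact (U.ι ≫ f)] (t : PrimeSpectrum R)
    (h : ∀ x ∈ MoreMor.relAss f F, (f x : PrimeSpectrum R).asIdeal ≤ t.asIdeal → x ∈ U) :
    ∃ g : R, g ∉ t.asIdeal ∧ ∀ x ∈ MoreMor.relAss f F, g ∉ (f x : PrimeSpectrum R).asIdeal → x ∈ U := by
  have hlc := Dev4.isLocallyConstructible_relAss_subset f F hFp U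
  have hc : Topology.IsConstructible
      ({y : PrimeSpectrum R | ∀ x ∈ MoreMor.relAss f F, f x = y → x ∈ U}ᶜ) :=
    (Topology.IsLocallyConstructible.isConstructible (X := PrimeSpectrum R) hlc).compl
  obtain ⟨C, _, φ, hφ⟩ := PrimeSpectrum.exists_range_eq_of_isConstructible hc
  have hker : ¬ RingHom.ker φ ≤ t.asIdeal := fun hle => by
    obtain ⟨r, hr, hrt⟩ := Ideal.exists_minimalPrimes_le hle
    obtain ⟨r', hr', -, hr'c⟩ := Ideal.exists_comap_eq_of_mem_minimalPrimes φ r (I := ⊥) hr
    have hmem : (⟨r, hr.1.1⟩ : PrimeSpectrum R) ∈ Set.range (PrimeSpectrum.comap φ) :=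
      ⟨⟨r', hr'⟩, PrimeSpectrum.ext hr'c⟩
    rw [hφ] at hmem
    exact hmem fun x hx hxr => h x hx (by rw [hxr]; exact hrt)
  obtain ⟨g, hg, hgt⟩ := Set.not_subset.1 hker
  refine ⟨g, hgt, fun x hx hgx => ?_⟩
  by_contra hxU
  have hmem : (f x : PrimeSpectrum R) ∈ Set.range (PrimeSpectrum.comap φ) := hφ.ge fun hc' => hxU (hc' x hx rfl)
  obtain ⟨c, hc'⟩ := hmem
  refine hgx ?_
  rw [← hc']
  show φ g ∈ c.asIdeal
  rw [show φ g = 0 from hg]
  exact zero_mem _

end Groth.Agent.PureRep4
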