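import Groth.Prelude.Def_FlatCA
import Groth.Agent.Lib.GenPts4.Strata
import Groth.Agent.S2768
import Mathlib

/-!
# The relative dimension of a smooth algebra with irreducible fibres, near a point
-/

set_option autoImplicit false
set_option linter.style.haveILetI false
set_option backward.isDefEq.respectTransparency false
set_option backward.isDefEq.respectTransparency.types false

universe u

open CategoryTheory CategoryTheory.Limits AlgebraicGeometry TopologicalSpace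

noncomputable section

namespace Groth.Agent.PureRep4

variable {X Y : Scheme.{u}} (f : X ⟶ Y)

theorem smoothOfRelativeDimension_mono (d : ℕ) {V W : X.Opens} (h : W ≤ V) [SmoothOfRelativeDimension d (V.ι ≫ f)] :
    SmoothOfRelativeDimension d (W.ι ≫ f) := by
  rw [← X.homOfLE_ι h, Category.assoc]
  exact IsZariskiLocalAtSource.comp (P := @SmoothOfRelativeDimension d) ‹_› (X.homOfLE h)

theorem relDim_unique {d d' : ℕ} {V V' : X.Opens} [SmoothOfRelativeDimension d (V.ι ≫ f)]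
    [SmoothOfRelativeDimension d' (V'.ι ≫ f)] {x : X} (hx : x ∈ V) (hx' : x ∈ V') : d = d' := by
  haveI := smoothOfRelativeDimension_mono f d (inf_le_left : V ⊓ V' ≤ V)
  haveI := smoothOfRelativeDimension_mono f d' (inf_le_right : V ⊓ V' ≤ V')
  have h1 := Groth.Agent.S2768.result d ((V ⊓ V').ι ≫ f) ⟨x, hx, hx'⟩
  have h2 := Groth.Agent.S2768.result d' ((V ⊓ V').ι ≫ f) ⟨x, hx, hx'⟩
  rw [h1] at h2
  exact_mod_cast h2

theorem exists_relDim_nhd [Smooth f] (x : X) :
    ∃ (d : ℕ) (V : X.Opens), x ∈ V ∧ SmoothOfRelativeDimension d (V.ι ≫ f) := by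
  obtain ⟨U, hU, V, hV, hxV, e, hstd⟩ := Smooth.exists_isStandardSmooth f x
  algebraize [(f.appLE U V e).hom]
  obtain ⟨ι, σ, _, _, ⟨P⟩⟩ := Algebra.IsStandardSmooth.out (R := Γ(Y, U)) (S := Γ(X, V))
  have hd : (f.appLE U V e).hom.IsStandardSmoothOfRelativeDimension P.dimension := ⟨⟨ι, σ, inferInstance, inferInstance, P, rfl⟩⟩
  refine ⟨P.dimension, V, hxV, ⟨fun z => ?_⟩⟩
  refine ⟨U, hU, V.ι ⁻¹ᵁ V, ?_, z.2, fun w hw => e hw, ?_⟩
  · rw [Scheme.Opens.ι_preimage_self]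
    haveI : IsAffine (V : Scheme.{u}) := hV
    exact isAffineOpen_top _
  · have hle : V.ι ⁻¹ᵁ V ≤ (V.ι ≫ f) ⁻¹ᵁ U := fun w hw => e hw
    rw [← Scheme.Hom.appLE_comp_appLE V.ι f U V (V.ι ⁻¹ᵁ V) e le_rfl]
    haveI : IsIso (V.ι.appLE V (V.ι ⁻¹ᵁ V) le_rfl) := by
      rw [← Scheme.Hom.app_eq_appLE]
      exact V.ι.isIso_app V (by simp)
    exact RingHom.isStandardSmoothOfRelativeDimension_respectsIso.1 (f.appLE U V e).hom
      (asIso (V.ι.appLE V (V.ι ⁻¹ᵁ V) le_rfl)).commRingCatIsoToRingEquiv hd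

theorem exists_open_relDim [Smooth f] [GeometricallyIrreducible f] (y : Y) :
    ∃ (d : ℕ) (O : Y.Opens), y ∈ O ∧ SmoothOfRelativeDimension d (f ∣_ O) := by
  choose d V hV hd using exists_relDim_nhd f
  obtain ⟨η, hη, hηgen⟩ := GenPts4.exists_generic f y
  have hconst : ∀ x₁ x₂ : X, f x₁ = f x₂ → d x₁ = d x₂ := fun x₁ x₂ h12 => by
    obtain ⟨ζ, hζ, hζg⟩ := GenPts4.exists_generic f (f x₁)
    haveI := hd x₁
    haveI := hd x₂
    exact relDim_unique f (x := ζ) (GenPts4.mem_of_generic hζg hζ.symm _ (hV x₁))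
      (GenPts4.mem_of_generic hζg (h12.symm.trans hζ.symm) _ (hV x₂))
  let L : X.Opens := ⨆ x : {x : X // d x = d η}, V x.1
  let O : Y.Opens := ⟨f '' (L : Set X), f.isOpenMap _ L.isOpen⟩
  refine ⟨d η, O, ⟨η, Opens.mem_iSup.2 ⟨⟨η, rfl⟩, hV η⟩, hη⟩, ?_⟩
  have hmem : ∀ x : X, f x ∈ O → d x = d η := by
    rintro x ⟨x', hx', hxx'⟩
    obtain ⟨⟨z, hz⟩, hxz⟩ := Opens.mem_iSup.1 hx'
    haveI := hd x'
    haveI := hd z
    exact (hconst x x' hxx'.symm).trans ((relDim_unique f (hV x') hxz).trans hz)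
  refine IsZariskiLocalAtSource.of_iSup_eq_top (P := @SmoothOfRelativeDimension (d η))
    (fun w : (f ⁻¹ᵁ O : X.Opens) => (f ⁻¹ᵁ O).ι ⁻¹ᵁ V w.1)
    (top_le_iff.1 fun w _ => Opens.mem_iSup.2 ⟨w, hV w.1⟩) fun w => ?_
  have hw : d w.1 = d η := hmem _ w.2
  haveI : SmoothOfRelativeDimension (d η) ((V w.1).ι ≫ f) := hw ▸ hd w.1
  have key : ∀ {W : Scheme.{u}} (g : W ⟶ O.toScheme), SmoothOfRelativeDimension (d η) (g ≫ O.ι) →
      SmoothOfRelativeDimension (d η) g := fun {W} g hg => by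
    haveI := smoothOfRelativeDimension_isStableUnderBaseChange (d η)
    refine MorphismProperty.of_isPullback (P := @SmoothOfRelativeDimension (d η)) (f := O.ι) (f' := 𝟙 W) ?_ hg
    exact ⟨⟨by simp⟩, ⟨PullbackCone.IsLimit.mk _ (fun s => s.fst) (fun s => Category.comp_id _)
      (fun s => (cancel_mono O.ι).1 (by rw [Category.assoc]; exact s.condition)) fun s m h₁ _ => (Category.comp_id m).symm.trans h₁⟩⟩
  refine key _ ?_
  rw [Category.assoc, morphismRestrict_ι]
  have he : ((f ⁻¹ᵁ O).ι ⁻¹ᵁ V w.1).ι ≫ (f ⁻¹ᵁ O).ι =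
      ((f ⁻¹ᵁ O).ι ∣_ V w.1) ≫ (V w.1).ι := (morphismRestrict_ι _ _).symm
  rw [reassoc_of% he]
  exact IsZariskiLocalAtSource.comp (P := @SmoothOfRelativeDimension (d η)) ‹_› _

theorem exists_smoothRelDim_nhd (A B : Type u) [CommRing A] [CommRing B] [Algebra A B] [Algebra.Smooth A B]
    (hB : FlatCA.GeomIrredFibres A B) (t : Ideal A) [t.IsPrime] :
    ∃ g : A, g ∉ t ∧ ∃ d : ℕ, ∀ (T B' : Type u) [CommRing T] [CommRing B'] [Algebra A T] [Algebra B B'] [Algebra T B']
      [Algebra A B'] [IsScalarTower A B B'] [IsScalarTower A T B'] [Algebra.IsPushout A T B B'],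
      IsUnit (algebraMap A T g) → FlatCA.SmoothRelDim d T B' := by
  let f := Spec.map (CommRingCat.ofHom (algebraMap A B))
  haveI : GeometricallyIrreducible f := hB
  haveI : Smooth f := (HasRingHomProperty.Spec_iff (P := @Smooth)).2 (RingHom.smooth_algebraMap.2 inferInstance)
  obtain ⟨d, O, hO, hd⟩ := exists_open_relDim f (⟨t, inferInstance⟩ : PrimeSpectrum A)
  obtain ⟨_, ⟨g, rfl⟩, hg, hgO⟩ := PrimeSpectrum.isTopologicalBasis_basic_opens.exists_subset_of_mem_open hO O.isOpen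
  refine ⟨g, hg, d, fun T B' _ _ _ _ _ _ _ _ _ hu => ?_⟩
  let b := Spec.map (CommRingCat.ofHom (algebraMap A T))
  let a := Spec.map (CommRingCat.ofHom (algebraMap B B'))
  have hsq : IsPullback (Spec.map (CommRingCat.ofHom (algebraMap T B'))) a b f :=
    isPullback_SpecMap_of_isPushout _ _ _ _ (CommRingCat.isPushout_of_isPushout A T B B')
  have hr : Set.range b ⊆ Set.range O.ι := by
    rw [Scheme.Opens.range_ι]
    rintro _ ⟨x, rfl⟩
    exact hgO fun hx => x.2.ne_top (Ideal.eq_top_of_isUnit_mem _ hx hu)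
  have hb := IsOpenImmersion.lift_fac O.ι b hr
  have hc : a ≫ f = Spec.map (CommRingCat.ofHom (algebraMap T B')) ≫ IsOpenImmersion.lift O.ι b hr ≫ O.ι := by
    rw [hb]; exact hsq.w.symm
  let a' : Spec (CommRingCat.of B') ⟶ (f ⁻¹ᵁ O).toScheme :=
    (isPullback_morphismRestrict f O).lift (Spec.map (CommRingCat.ofHom (algebraMap T B')) ≫ IsOpenImmersion.lift O.ι b hr) a
      (by rw [Category.assoc]; exact hc.symm)
  have ha' : a' ≫ (f ⁻¹ᵁ O).ι = a := (isPullback_morphismRestrict f O).lift_snd _ _ _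
  have hsq' : IsPullback (Spec.map (CommRingCat.ofHom (algebraMap T B'))) a' (IsOpenImmersion.lift O.ι b hr) (f ∣_ O) := by
    refine IsPullback.of_bot ?_ ((isPullback_morphismRestrict f O).lift_fst _ _ _).symm (isPullback_morphismRestrict f O)
    rw [hb, ha']
    exact hsq
  haveI := smoothOfRelativeDimension_isStableUnderBaseChange d
  exact MorphismProperty.of_isPullback (P := @SmoothOfRelativeDimension d) hsq'.flip hd

end Groth.Agent.PureRep4
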