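import Groth.Agent.Lib.PureRep4.Bridge
import Groth.Agent.Lib.PureRep4.Dims
import Groth.Agent.Lib.FlatGE4.Chain
import Groth.Agent.S12243
import Mathlib

/-!
# Representability near a point, after an etale extension
-/

set_option autoImplicit false
set_option linter.style.haveILetI false
set_option maxSynthPendingDepth 3
set_option backward.isDefEq.respectTransparency false
set_option backward.isDefEq.respectTransparency.types false

universe u

open CategoryTheory CategoryTheory.Limits AlgebraicGeometry Opposite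
open scoped TensorProduct

attribute [local instance] Algebra.TensorProduct.rightAlgebra

noncomputable section

namespace Groth.Agent.PureRep4

section trans

variable {A A₁ B B₁ N N₁ : Type u} [CommRing A] [CommRing A₁] [CommRing B] [CommRing B₁] [Algebra A A₁] [Algebra A B]
  [Algebra B B₁] [Algebra A₁ B₁] [Algebra A B₁] [IsScalarTower A B B₁] [IsScalarTower A A₁ B₁]
  [Algebra.IsPushout A A₁ B B₁] [AddCommGroup N] [Module B N] [AddCommGroup N₁] [Module B₁ N₁] [Module B N₁]
  [IsScalarTower B B₁ N₁] (T : Type u) [CommRing T] [Algebra A T] [Algebra A₁ T] [IsScalarTower A A₁ T]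

/-- Transitivity of the base change. -/
theorem ge_trans (φ : N →ₗ[B] N₁) (hφ : IsBaseChange B₁ φ) (n : ℕ) :
    FlatGE4.GE (A := A₁) T n B₁ N₁ ↔ FlatGE4.GE (A := A) T n B N := by
  let B' := T ⊗[A₁] B₁
  letI : Algebra B B' := ((algebraMap B₁ B').comp (algebraMap B B₁)).toAlgebra
  haveI : IsScalarTower B B₁ B' := IsScalarTower.of_algebraMap_eq fun _ => rfl
  haveI : IsScalarTower A A₁ B' := IsScalarTower.of_algebraMap_eq fun a => by
    show algebraMap A T a ⊗ₜ[A₁] (1 : B₁) = algebraMap A₁ T (algebraMap A A₁ a) ⊗ₜ[A₁] (1 : B₁)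
    rw [← IsScalarTower.algebraMap_apply]
  haveI : IsScalarTower A T B' := inferInstance
  haveI : IsScalarTower A B₁ B' := IsScalarTower.of_algebraMap_eq fun a => by
    rw [IsScalarTower.algebraMap_apply A A₁ B', IsScalarTower.algebraMap_apply A A₁ B₁,
      ← IsScalarTower.algebraMap_apply A₁ B₁ B']
  haveI : IsScalarTower A B B' := IsScalarTower.of_algebraMap_eq fun a => by
    show _ = algebraMap B₁ B' (algebraMap B B₁ (algebraMap A B a))
    rw [← IsScalarTower.algebraMap_apply A B B₁, ← IsScalarTower.algebraMap_apply A B₁ B']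
  haveI : Algebra.IsPushout A₁ T B₁ B' := inferInstance
  haveI h2 : Algebra.IsPushout A T B B' :=
    (Algebra.IsPushout.comp_iff (R := A) (S := A₁) (R' := B) (S' := B₁) (T := T) (T' := B')).2 inferInstance
  haveI : Algebra.IsPushout A B T B' := h2.symm
  letI : Module B (B' ⊗[B₁] N₁) := Module.compHom _ (algebraMap B B₁)
  haveI : IsScalarTower B B₁ (B' ⊗[B₁] N₁) := IsScalarTower.of_algebraMap_smul fun _ _ => rfl
  haveI : IsScalarTower B B' (B' ⊗[B₁] N₁) := IsScalarTower.of_algebraMap_smul fun b z => by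
    rw [IsScalarTower.algebraMap_apply B B₁ B', algebraMap_smul, algebraMap_smul]
  exact FlatGE4.ge_iff_of_isBaseChange _ (hφ.comp (TensorProduct.isBaseChange B₁ N₁ B')) n

end trans

variable {A : Type u} [CommRing A] {X : Scheme.{u}} (f : X ⟶ Spec (CommRingCat.of A)) [LocallyOfFiniteType f]
  (F : X.Modules) [Coh.IsQCoh F]

/-- Near `t`, the functors are those of finitely many modules with complete dévissages, after an etale extension. -/
def HasChart (t : Ideal A) [t.IsPrime] : Prop :=
  ∃ (A' : Type u) (_ : CommRing A') (_ : Algebra A A') (t' : Ideal A') (_ : t'.IsPrime), Algebra.Etale A A' ∧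
    t'.LiesOver t ∧ ∃ (g : A') (k : ℕ) (C : Fin k → Type u) (_ : ∀ i, CommRing (C i)) (_ : ∀ i, Algebra A' (C i))
      (N : Fin k → Type u) (_ : ∀ i, AddCommGroup (N i)) (_ : ∀ i, Module (C i) (N i)),
      g ∉ t' ∧ (∀ i, Algebra.FinitePresentation A' (C i) ∧ Module.FinitePresentation (C i) (N i) ∧
        Nonempty (FlatCA.CompleteDevissage A' (C i) (N i) t')) ∧
      ∀ (m : ℕ) (T : Type u) [CommRing T] [Algebra A T] [Algebra A' T] [IsScalarTower A A' T],
        IsUnit (algebraMap A' T g) →
        (FpqcFun4.P f F m (Over.mk (Spec.map (CommRingCat.ofHom (algebraMap A T)))) ↔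
          ∀ i, FlatGE4.GE (A := A') T m (C i) (N i))

/-- Conditions represented by monomorphisms of finite presentation intersect. -/
theorem exists_rep_inter {R : CommRingCat.{u}} {k : ℕ} (Q : Fin k → ∀ T : CommRingCat.{u}, (Spec T ⟶ Spec R) → Prop)
    (hQ : ∀ i, ∃ (Z : Scheme.{u}) (j : Z ⟶ Spec R), Mono j ∧ LocallyOfFinitePresentation j ∧ QuasiCompact j ∧
      ∀ T x, Q i T x ↔ ∃ l, l ≫ j = x) :
    ∃ (Z : Scheme.{u}) (j : Z ⟶ Spec R), Mono j ∧ LocallyOfFinitePresentation j ∧ QuasiCompact j ∧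
      ∀ T x, (∀ i, Q i T x) ↔ ∃ l, l ≫ j = x := by
  induction k with
  | zero => exact ⟨Spec R, 𝟙 _, inferInstance, inferInstance, inferInstance,
      fun T x => iff_of_true (fun i => i.elim0) ⟨x, Category.comp_id x⟩⟩
  | succ k ih =>
    obtain ⟨Z, j, h1, h2, h3, hZ⟩ := ih (fun i => Q i.castSucc) fun i => hQ i.castSucc
    obtain ⟨Z', j', g1, g2, g3, hZ'⟩ := hQ (Fin.last k)
    refine ⟨pullback j j', pullback.fst j j' ≫ j, inferInstance, inferInstance, inferInstance, fun T x => ⟨fun h => ?_, ?_⟩⟩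
    · obtain ⟨l, hl⟩ := (hZ T x).1 fun i => h i.castSucc
      obtain ⟨l', hl'⟩ := (hZ' T x).1 (h (Fin.last k))
      exact ⟨pullback.lift l l' (hl.trans hl'.symm), by rw [pullback.lift_fst_assoc, hl]⟩
    · rintro ⟨l, rfl⟩ i
      refine Fin.lastCases ?_ (fun i => ?_) i
      · exact (hZ' T _).2 ⟨l ≫ pullback.snd j j', by rw [Category.assoc, ← pullback.condition]⟩
      · exact (hZ T _).2 ⟨l ≫ pullback.fst j j', Category.assoc _ _ _⟩ i

variable {f F} in
set_option maxHeartbeats 2000000 in
/-- Representability of `F_n` near a point where `F_{n+1}` holds, after an etale extension. -/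
theorem exists_etale_chart (hchart : ∀ (t : Ideal A) [t.IsPrime], HasChart f F t) (n : ℕ) (R : Type u) [CommRing R]
    [Algebra A R] (hP : FpqcFun4.P f F (n + 1) (Over.mk (Spec.map (CommRingCat.ofHom (algebraMap A R)))))
    (r : Ideal R) [r.IsPrime] :
    ∃ (E : Type u) (_ : CommRing E) (_ : Algebra R E), Algebra.Etale R E ∧
      (∃ e : Ideal E, e.IsPrime ∧ e.comap (algebraMap R E) = r) ∧
      RepOn f F n (Spec.map (CommRingCat.ofHom (algebraMap R E)) ≫ Spec.map (CommRingCat.ofHom (algebraMap A R))) := by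
  classical
  let t := r.comap (algebraMap A R)
  obtain ⟨A', _, _, t', _, het, ht', g, k, C, _, _, N, _, _, hg, hfin, hchart'⟩ := hchart t
  haveI := het
  haveI := ht'
  haveI : ∀ i, Algebra.FinitePresentation A' (C i) := fun i => (hfin i).1
  haveI : ∀ i, Module.FinitePresentation (C i) (N i) := fun i => (hfin i).2.1
  let D := fun i => (hfin i).2.2.some
  -- the relative dimensions
  have hdim : ∀ (i : Fin k) (j : Fin (D i).n), ∃ a : A', a ∉ t' ∧ ∃ e : ℕ, ∀ (T B' : Type u) [CommRing T] [CommRing B']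
      [Algebra A' T] [Algebra ((D i).B j) B'] [Algebra T B'] [Algebra A' B'] [IsScalarTower A' ((D i).B j) B']
      [IsScalarTower A' T B'] [Algebra.IsPushout A' T ((D i).B j) B'],
      IsUnit (algebraMap A' T a) → FlatCA.SmoothRelDim e T B' := fun i j => by
    haveI := (D i).smooth j j.2
    exact exists_smoothRelDim_nhd A' ((D i).B j) ((D i).geomIrred j j.2) t'
  choose a ha e he using hdim
  let g₁ : A' := g * ∏ i, ∏ j, a i j
  have hg₁ : g₁ ∉ t' := fun h => by
    rcases (‹t'.IsPrime›.mem_or_mem h) with h | h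
    · exact hg h
    · obtain ⟨i, -, hi⟩ := Ideal.IsPrime.prod_mem_iff.1 h
      obtain ⟨j, -, hj⟩ := Ideal.IsPrime.prod_mem_iff.1 hi
      exact ha i j hj
  -- a point over both
  let R₀ := R ⊗[A] A'
  have hsq : IsPullback (Spec.map (CommRingCat.ofHom (algebraMap R R₀))) (Spec.map (CommRingCat.ofHom (algebraMap A' R₀)))
      (Spec.map (CommRingCat.ofHom (algebraMap A R))) (Spec.map (CommRingCat.ofHom (algebraMap A A'))) :=
    isPullback_SpecMap_of_isPushout _ _ _ _ (CommRingCat.isPushout_of_isPushout A R A' R₀)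
  obtain ⟨r₀, hr₀, hr₀'⟩ := Scheme.exists_preimage_of_isPullback hsq (⟨r, inferInstance⟩ : PrimeSpectrum R)
    (⟨t', inferInstance⟩ : PrimeSpectrum A') (PrimeSpectrum.ext ht'.over)
  let r₀' : Ideal R₀ := (r₀ : PrimeSpectrum R₀).asIdeal
  haveI : r₀'.IsPrime := (r₀ : PrimeSpectrum R₀).2
  have hr₀R : r₀'.comap (algebraMap R R₀) = r := congrArg PrimeSpectrum.asIdeal hr₀
  have hr₀A : r₀'.comap (algebraMap A' R₀) = t' := congrArg PrimeSpectrum.asIdeal hr₀'
  let g₀ : R₀ := algebraMap A' R₀ g₁
  have hg₀ : g₀ ∉ r₀' := fun h => hg₁ (by rw [← hr₀A]; exact h)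
  let R' := Localization.Away g₀
  have hdis : Disjoint (Submonoid.powers g₀ : Set R₀) (r₀' : Set R₀) := by
    rw [Set.disjoint_left]
    rintro _ ⟨m, rfl⟩ hm
    exact hg₀ (‹r₀'.IsPrime›.mem_of_pow_mem m hm)
  let r' : Ideal R' := r₀'.map (algebraMap R₀ R')
  haveI : r'.IsPrime := IsLocalization.isPrime_of_isPrime_disjoint (Submonoid.powers g₀) R' _ inferInstance hdis
  have hr'0 : r'.comap (algebraMap R₀ R') = r₀' :=
    IsLocalization.under_map_of_isPrime_disjoint (Submonoid.powers g₀) R' inferInstance hdis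
  have hr'R : r'.comap (algebraMap R R') = r := by
    rw [IsScalarTower.algebraMap_eq R R₀ R', ← Ideal.comap_comap, hr'0, hr₀R]
  haveI : r'.LiesOver t' := ⟨by
    rw [Ideal.under_def, IsScalarTower.algebraMap_eq A' R₀ R', ← Ideal.comap_comap, hr'0, hr₀A]⟩
  haveI : IsScalarTower A A' R' := IsScalarTower.of_algebraMap_eq fun x => by
    rw [IsScalarTower.algebraMap_apply A R₀ R', IsScalarTower.algebraMap_apply A A' R₀,
      ← IsScalarTower.algebraMap_apply A' R₀ R']
  have hu₁ : IsUnit (algebraMap A' R' g₁) := by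
    rw [IsScalarTower.algebraMap_apply A' R₀ R']
    exact IsLocalization.Away.algebraMap_isUnit g₀
  have hu : IsUnit (algebraMap A' R' g) := isUnit_of_mul_isUnit_left (by rw [← map_mul]; exact hu₁)
  have hua : ∀ i j, IsUnit (algebraMap A' R' (a i j)) := fun i j => by
    refine isUnit_of_dvd_unit ((map_dvd (algebraMap A' R')) ?_) hu₁
    exact dvd_mul_of_dvd_right ((Finset.dvd_prod_of_mem (fun j => a i j) (Finset.mem_univ j)).trans
      (Finset.dvd_prod_of_mem (fun i => ∏ j, a i j) (Finset.mem_univ i))) _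
  have hsA : ∀ (T : Type u) [CommRing T] [Algebra R' T] [Algebra A T] [IsScalarTower A R' T],
      Spec.map (CommRingCat.ofHom (algebraMap R' T)) ≫ Spec.map (CommRingCat.ofHom (algebraMap R R')) ≫
        Spec.map (CommRingCat.ofHom (algebraMap A R)) = Spec.map (CommRingCat.ofHom (algebraMap A T)) :=
    fun T _ _ _ _ => by
      rw [← Spec.map_comp, ← Spec.map_comp]
      congr 1
      refine CommRingCat.hom_ext (RingHom.ext fun x => ?_)
      show algebraMap R' T (algebraMap R R' (algebraMap A R x)) = algebraMap A T x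
      rw [← IsScalarTower.algebraMap_apply A R R', ← IsScalarTower.algebraMap_apply A R' T]
  -- the modules over the extension
  have hrep : ∀ i, ∃ h : R', h ∉ r' ∧ ∃ (Z : Scheme.{u}) (j : Z ⟶ Spec (CommRingCat.of R')),
      Mono j ∧ LocallyOfFinitePresentation j ∧ QuasiCompact j ∧
      ∀ (T : Type u) [CommRing T] [Algebra A' T] [Algebra R' T] [IsScalarTower A' R' T], IsUnit (algebraMap R' T h) →
        (FlatGE4.GE (A := A') T n (C i) (N i) ↔
          ∃ l : Spec (CommRingCat.of T) ⟶ Z, l ≫ j = Spec.map (CommRingCat.ofHom (algebraMap R' T))) := fun i => by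
    let C' := R' ⊗[A'] C i
    let N' := C' ⊗[C i] N i
    haveI : IsScalarTower R' C' N' := inferInstance
    haveI : Algebra.FinitePresentation R' C' := inferInstance
    haveI : Module.FinitePresentation C' N' := inferInstance
    obtain ⟨D', aA, rA, t1, t2, aB, rB, t3, t4, bA, t5, t6, bA', t7, sA, t8, mA, t9, gM, hn, -, -, -, -, hpush⟩ :=
      S12243.result A' (C i) (N i) t' (D i) R' r' C' N' (TensorProduct.mk (C i) C' (N i) 1)
        (TensorProduct.isBaseChange (C i) (N i) C')
    let e' : ℕ → ℕ := fun j => if h : j < (D i).n then e i ⟨j, h⟩ else 0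
    have he' : ∀ j, j < D'.n → FlatCA.SmoothRelDim (e' j) R' (D'.B j) := fun j hj => by
      have hj' : j < (D i).n := hn ▸ hj
      rw [show e' j = e i ⟨j, hj'⟩ from dif_pos hj']
      letI := aB ⟨j, hj'⟩
      letI := rB ⟨j, hj'⟩
      haveI := t3 ⟨j, hj'⟩
      haveI := t4 ⟨j, hj'⟩
      haveI : Algebra.IsPushout A' R' ((D i).B j) (D'.B j) := (hpush ⟨j, hj'⟩).2.1
      exact he i ⟨j, hj'⟩ R' (D'.B j) (hua i ⟨j, hj'⟩)
    have hflat : FlatCA.FlatInDimGE (n + 1) R' C' N' := by
      haveI : Algebra.IsPushout A' (C i) R' C' := Algebra.IsPushout.symm inferInstance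
      refine (FlatGE4.ge_iff_of_isBaseChange (A := A') (B := C i) (A' := R') (B' := C') (N := N i) (N' := N') _
        (TensorProduct.isBaseChange (C i) (N i) C') (n + 1)).2 ?_
      refine (hchart' (n + 1) R' hu).1 ?_ i
      refine P_congr ?_ (P_comp (Spec.map (CommRingCat.ofHom (algebraMap R R'))) hP)
      rw [← Spec.map_comp]
      congr 1
    obtain ⟨h, hh, Z, j, h1, h2, h3, -, hT⟩ := FlatGE4.exists_rep N' D' e' he' n hflat
    refine ⟨h, hh, Z, j, h1, h2, h3, fun T _ _ _ _ hunit => ?_⟩
    exact (ge_trans T _ (TensorProduct.isBaseChange (C i) (N i) C') n).symm.trans (hT T hunit)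
  choose h hh Z j hj1 hj2 hj3 hT using hrep
  let H : R' := ∏ i, h i
  have hH : H ∉ r' := fun hm => by
    obtain ⟨i, -, hi⟩ := Ideal.IsPrime.prod_mem_iff.1 hm
    exact hh i hi
  let E := Localization.Away H
  haveI : Algebra.Etale R R₀ := inferInstance
  haveI : Algebra.Etale R₀ R' := Algebra.Etale.of_isLocalizationAway g₀
  haveI : Algebra.Etale R R' := Algebra.Etale.comp R R₀ R'
  haveI : Algebra.Etale R' E := Algebra.Etale.of_isLocalizationAway H
  have hdisE : Disjoint (Submonoid.powers H : Set R') (r' : Set R') := by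
    rw [Set.disjoint_left]
    rintro _ ⟨m, rfl⟩ hm
    exact hH (‹r'.IsPrime›.mem_of_pow_mem m hm)
  refine ⟨E, inferInstance, inferInstance, Algebra.Etale.comp R R' E,
    ⟨r'.map (algebraMap R' E), IsLocalization.isPrime_of_isPrime_disjoint (Submonoid.powers H) E _ inferInstance hdisE, by
      rw [IsScalarTower.algebraMap_eq R R' E, ← Ideal.comap_comap,
        show (r'.map (algebraMap R' E)).comap (algebraMap R' E) = r' from
          IsLocalization.under_map_of_isPrime_disjoint (Submonoid.powers H) E inferInstance hdisE, hr'R]⟩, ?_⟩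
  obtain ⟨Z₀, j₀, k1, k2, k3, hZ₀⟩ := exists_rep_inter
    (fun (i : Fin k) (T : CommRingCat.{u}) (x : Spec T ⟶ Spec (CommRingCat.of E)) =>
      ∃ l, l ≫ j i = x ≫ Spec.map (CommRingCat.ofHom (algebraMap R' E))) fun i => by
    haveI := hj1 i
    haveI := hj2 i
    haveI := hj3 i
    refine ⟨pullback (j i) (Spec.map (CommRingCat.ofHom (algebraMap R' E))), pullback.snd _ _,
      inferInstance, inferInstance, inferInstance, fun T x => ⟨fun ⟨l, hl⟩ => ⟨pullback.lift l x hl, pullback.lift_snd _ _ _⟩, ?_⟩⟩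
    rintro ⟨l, rfl⟩
    exact ⟨l ≫ pullback.fst _ _, by rw [Category.assoc, Category.assoc, pullback.condition]⟩
  haveI := k1
  haveI := k2
  haveI := k3
  refine repOn_of_affine _ j₀ fun T x => Iff.trans ?_ (hZ₀ T x)
  obtain ⟨ψ, rfl⟩ := Spec.map_surjective x
  letI : Algebra E T := ψ.hom.toAlgebra
  letI : Algebra R' T := ((algebraMap E T).comp (algebraMap R' E)).toAlgebra
  letI : Algebra A' T := ((algebraMap R' T).comp (algebraMap A' R')).toAlgebra
  letI : Algebra A T := ((algebraMap R' T).comp (algebraMap A R')).toAlgebra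
  haveI : IsScalarTower A' R' T := IsScalarTower.of_algebraMap_eq fun _ => rfl
  haveI : IsScalarTower A R' T := IsScalarTower.of_algebraMap_eq fun _ => rfl
  haveI : IsScalarTower A A' T := IsScalarTower.of_algebraMap_eq fun x => by
    show algebraMap R' T (algebraMap A R' x) = algebraMap R' T (algebraMap A' R' (algebraMap A A' x))
    rw [← IsScalarTower.algebraMap_apply A A' R']
  have hcomp : Spec.map ψ ≫ Spec.map (CommRingCat.ofHom (algebraMap R' E)) =
      Spec.map (CommRingCat.ofHom (algebraMap R' T)) := by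
    rw [← Spec.map_comp]; rfl
  have hA : Spec.map ψ ≫ Spec.map (CommRingCat.ofHom (algebraMap R E)) ≫ Spec.map (CommRingCat.ofHom (algebraMap A R)) =
      Spec.map (CommRingCat.ofHom (algebraMap A T)) := by
    rw [← hsA T, ← hcomp, IsScalarTower.algebraMap_eq R R' E, CommRingCat.ofHom_comp, Spec.map_comp]
    simp only [Category.assoc]
  have huT : IsUnit (algebraMap A' T g) := by
    rw [IsScalarTower.algebraMap_apply A' R' T]; exact hu.map _
  have hHT : ∀ i, IsUnit (algebraMap R' T (h i)) := fun i => by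
    refine isUnit_of_dvd_unit ((map_dvd _) (Finset.dvd_prod_of_mem _ (Finset.mem_univ i))) ?_
    show IsUnit (algebraMap E T (algebraMap R' E H))
    exact (IsLocalization.Away.algebraMap_isUnit H).map _
  constructor
  · intro hx i
    obtain ⟨l, hl⟩ := (hT i T (hHT i)).1 ((hchart' n T huT).1 (P_congr hA hx) i)
    exact ⟨l, hl.trans hcomp.symm⟩
  · intro hx
    refine P_congr hA.symm ((hchart' n T huT).2 fun i => ?_)
    obtain ⟨l, hl⟩ := hx i
    exact (hT i T (hHT i)).2 ⟨l, hl.trans hcomp⟩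

end Groth.Agent.PureRep4
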