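import Groth.Agent.Lib.PureRep4.BaseChange
import Groth.Agent.Lib.Dev4.Refine
import Groth.Agent.Lib.ModM1.Fpqc
import Mathlib

/-!
# Charts for modules on proper schemes
-/

set_option autoImplicit false
set_option linter.style.haveILetI false
set_option maxSynthPendingDepth 3
set_option backward.isDefEq.respectTransparency false
set_option backward.isDefEq.respectTransparency.types false

universe u

open CategoryTheory CategoryTheory.Limits AlgebraicGeometry Opposite
open scoped TensorProduct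

attribute [local instance] Algebra.TensorProduct.rightAlgebra

noncomputable section

namespace Groth.Agent.PureRep4

/-- Pullback of a module over an affine scheme along a map of affine schemes, given a base change. -/
theorem pullback_mt' {R S : Type u} [CommRing R] [CommRing S] [Algebra R S] {M M' : Type u} [AddCommGroup M] [Module R M]
    [AddCommGroup M'] [Module S M'] [Module R M'] [IsScalarTower R S M'] (φ : M →ₗ[R] M') (hφ : IsBaseChange S φ)
    {X : Scheme.{u}} (j : Spec (CommRingCat.of R) ⟶ X) (j' : Spec (CommRingCat.of S) ⟶ X) (hj : fA R S ≫ j = j')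
    {G : X.Modules} (e : (Scheme.Modules.pullback j).obj G ≅ mt R M) :
    Nonempty ((Scheme.Modules.pullback j').obj G ≅ mt S M') :=
  ⟨(Scheme.Modules.pullbackCongr hj).symm.app G ≪≫ ((Scheme.Modules.pullbackComp (fA R S) j).app G).symm ≪≫
    (Scheme.Modules.pullback (fA R S)).mapIso e ≪≫
    (pullback_mt (algebraMap R S) inferInstance (Algebra.algebra_ext _ _ fun _ => rfl) M).some ≪≫
    (tilde.functor _).mapIso hφ.equiv.toModuleIso⟩

variable {A : Type u} [CommRing A] {X : Scheme.{u}} (f : X ⟶ Spec (CommRingCat.of A)) (F : X.Modules)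

/-- The map between the base changes. -/
abbrev bcMap (A₁ A' : Type u) [CommRing A₁] [CommRing A'] [Algebra A A₁] [Algebra A A'] [Algebra A₁ A']
    [IsScalarTower A A₁ A'] : pullback f (fA A A') ⟶ pullback f (fA A A₁) :=
  pullback.map f (fA A A') f (fA A A₁) (𝟙 X) (fA A₁ A') (𝟙 _) (by simp) (by
    rw [Category.comp_id, ← Spec.map_comp, ← CommRingCat.ofHom_comp, ← IsScalarTower.algebraMap_eq])

theorem bcMap_fst (A₁ A' : Type u) [CommRing A₁] [CommRing A'] [Algebra A A₁] [Algebra A A'] [Algebra A₁ A']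
    [IsScalarTower A A₁ A'] : bcMap f A₁ A' ≫ pullback.fst f (fA A A₁) = pullback.fst f (fA A A') :=
  (pullback.lift_fst _ _ _).trans (Category.comp_id _)

/-- An etale affine chart of the base change moves along a further base change. -/
theorem exists_chart_piece {A₁ A' : Type u} [CommRing A₁] [CommRing A'] [Algebra A A₁] [Algebra A A'] [Algebra A₁ A']
    [IsScalarTower A A₁ A'] {C : Type u} [CommRing C] [Algebra A₁ C] (N : Type u) [AddCommGroup N] [Module C N]
    (h₀ : Spec (CommRingCat.of C) ⟶ pullback f (fA A A₁)) [Etale h₀] (hf₀ : h₀ ≫ pullback.snd f (fA A A₁) = fA A₁ C)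
    (e₀ : (Scheme.Modules.pullback (h₀ ≫ pullback.fst f (fA A A₁))).obj F ≅ mt C N) :
    ∃ h : Spec (CommRingCat.of (A' ⊗[A₁] C)) ⟶ pullback f (fA A A'), Etale h ∧
      h ≫ pullback.snd f (fA A A') = fA A' (A' ⊗[A₁] C) ∧
      Nonempty ((Scheme.Modules.pullback h).obj ((Scheme.Modules.pullback (pullback.fst f (fA A A'))).obj F) ≅
        mt (A' ⊗[A₁] C) ((A' ⊗[A₁] C) ⊗[C] N)) ∧
      ∀ x, bcMap f A₁ A' x ∈ Set.range h₀ → x ∈ Set.range h := by
  let C' := A' ⊗[A₁] C
  let m := bcMap f A₁ A'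
  have hm : IsPullback m (pullback.snd f (fA A A')) (pullback.snd f (fA A A₁)) (fA A₁ A') := by
    refine IsPullback.of_right ?_ (pullback.lift_snd _ _ _) (IsPullback.of_hasPullback f (fA A A₁))
    rw [bcMap_fst, ← Spec.map_comp, ← CommRingCat.ofHom_comp, ← IsScalarTower.algebraMap_eq]
    exact IsPullback.of_hasPullback f (fA A A')
  have hsq : IsPullback (fA C C') (fA A' C') (fA A₁ C) (fA A₁ A') :=
    (isPullback_SpecMap_of_isPushout _ _ _ _ (CommRingCat.isPushout_of_isPushout A₁ A' C C')).flip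
  let h : Spec (CommRingCat.of C') ⟶ pullback f (fA A A') :=
    hm.lift (fA C C' ≫ h₀) (fA A' C') (by rw [Category.assoc, hf₀]; exact hsq.w)
  have hh1 : h ≫ m = fA C C' ≫ h₀ := hm.lift_fst _ _ _
  have hh2 : h ≫ pullback.snd f (fA A A') = fA A' C' := hm.lift_snd _ _ _
  have hpb : IsPullback (fA C C') h h₀ m := by
    refine IsPullback.of_bot ?_ hh1.symm hm
    rw [hh2, hf₀]
    exact hsq
  refine ⟨h, MorphismProperty.of_isPullback (P := @Etale) hpb ‹Etale h₀›, hh2, ?_, fun x ⟨c, hc⟩ => ?_⟩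
  · obtain ⟨e⟩ := pullback_mt' (TensorProduct.mk C C' N 1) (TensorProduct.isBaseChange C N C')
      (h₀ ≫ pullback.fst f (fA A A₁)) (h ≫ pullback.fst f (fA A A'))
      (by rw [← Category.assoc, ← hh1, Category.assoc, bcMap_fst]) e₀
    exact ⟨(Scheme.Modules.pullbackComp h (pullback.fst f (fA A A'))).app F ≪≫ e⟩
  · obtain ⟨c', -, hc'⟩ := Scheme.exists_preimage_of_isPullback hpb c x hc
    exact ⟨c', hc'⟩

variable [IsProper f] [LocallyOfFinitePresentation f] [Coh.IsQCoh F]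

set_option maxHeartbeats 2000000 in
/-- Modules of finite presentation on proper schemes have charts. -/
theorem hasChart_of_proper (hF : CohB1.IsFP F) (t : Ideal A) [t.IsPrime] : HasChart f F t := by
  classical
  haveI : CompactSpace X := (quasiCompact_iff_compactSpace f).1 inferInstance
  let 𝒰 := X.affineCover.finiteSubcover
  let l := Fintype.card 𝒰.I₀
  let el : Fin l ≃ 𝒰.I₀ := (Fintype.equivFin 𝒰.I₀).symm
  haveI hUaff : ∀ i : 𝒰.I₀, IsAffine (𝒰.X i) := fun i => by
    show IsAffine (X.affineCover.X _)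
    infer_instance
  let B : Fin l → Type u := fun j => Γ(𝒰.X (el j), ⊤)
  let jm : ∀ j, Spec (CommRingCat.of (B j)) ⟶ X := fun j => (𝒰.X (el j)).isoSpec.inv ≫ 𝒰.f (el j)
  haveI : ∀ j, IsOpenImmersion (jm j) := fun j =>
    inferInstanceAs (IsOpenImmersion ((𝒰.X (el j)).isoSpec.inv ≫ 𝒰.f (el j)))
  choose ψ hψ using fun j => Spec.map_surjective (jm j ≫ f)
  letI : ∀ j, Algebra A (B j) := fun j => (ψ j).hom.toAlgebra
  have hψ' : ∀ j, fA A (B j) = jm j ≫ f := fun j => hψ j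
  haveI : ∀ j, Algebra.FinitePresentation A (B j) := fun j => by
    have h : LocallyOfFinitePresentation (fA A (B j)) := by rw [hψ']; infer_instance
    exact RingHom.finitePresentation_algebraMap.1 ((HasRingHomProperty.Spec_iff (P := @LocallyOfFinitePresentation)).1 h)
  let G : ∀ j, (Spec (CommRingCat.of (B j))).Modules := fun j => (Scheme.Modules.pullback (jm j)).obj F
  haveI : ∀ j, Coh.IsQCoh (G j) := fun j => M1.isQCoh_pullback _ inferInstance
  let N : Fin l → Type u := fun j => ((moduleSpecΓFunctor (R := CommRingCat.of (B j))).obj (G j) : Type u)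
  have hN : ∀ j, ∃ e : G j ≅ mt (B j) (N j), True := fun j =>
    ⟨(@asIso _ _ _ _ (G j).fromTildeΓ
      (Scheme.Modules.isIso_fromTildeΓ_of_isQuasicoherent (R := CommRingCat.of (B j)) _)).symm, trivial⟩
  choose eN _ using hN
  haveI : ∀ j, Module.FinitePresentation (B j) (N j) := fun j =>
    M1.finitePresentation_sections_spec (G j) (M1.isFP_pullback _ hF)
  choose A₁ _ _ t₁ _ hnbhd hcover using fun j => S1256.result (A := A) (B := B j) (N j) t
  obtain ⟨A', _, _, t', _, φ, hnbhd', hφ⟩ := Dev4.exists_refinement t l A₁ t₁ hnbhd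
  have het' := hnbhd'.1
  have ht' := hnbhd'.2.1
  haveI := het'
  haveI := ht'
  have hpiece : ∀ j, ∃ (k : ℕ) (C : Fin k → Type u) (_ : ∀ i, CommRing (C i)) (_ : ∀ i, Algebra (A₁ j) (C i))
      (M : Fin k → Type u) (_ : ∀ i, AddCommGroup (M i)) (_ : ∀ i, Module (C i) (M i))
      (h₀ : ∀ i, Spec (CommRingCat.of (C i)) ⟶ pullback f (fA A (A₁ j))),
      (∀ i, Algebra.FinitePresentation (A₁ j) (C i) ∧ Module.FinitePresentation (C i) (M i) ∧
        Nonempty (FlatCA.CompleteDevissage (A₁ j) (C i) (M i) (t₁ j)) ∧ Etale (h₀ i) ∧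
        h₀ i ≫ pullback.snd f (fA A (A₁ j)) = fA (A₁ j) (C i) ∧
        Nonempty ((Scheme.Modules.pullback (h₀ i ≫ pullback.fst f (fA A (A₁ j)))).obj F ≅ mt (C i) (M i))) ∧
      ∀ y, pullback.snd f (fA A (A₁ j)) y = (⟨t₁ j, inferInstance⟩ : PrimeSpectrum (A₁ j)) →
        pullback.fst f (fA A (A₁ j)) y ∈ Set.range (jm j) → ∃ i, y ∈ Set.range (h₀ i) := fun j => by
    haveI := (hnbhd j).1
    let BA := A₁ j ⊗[A] B j
    let NA := BA ⊗[B j] N j
    haveI : Algebra.IsPushout A (B j) (A₁ j) BA := Algebra.IsPushout.symm inferInstance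
    obtain ⟨k, C, _, _, _, _, Nc, _, _, _, _, gm, hC, hcov⟩ :=
      hcover j BA NA (TensorProduct.mk (B j) BA (N j) 1) (TensorProduct.isBaseChange (B j) (N j) BA)
    haveI : Algebra.FinitePresentation (A₁ j) BA := inferInstance
    haveI : Module.FinitePresentation BA NA := inferInstance
    have hsq : IsPullback (fA (B j) BA) (fA (A₁ j) BA) (fA A (B j)) (fA A (A₁ j)) :=
      (isPullback_SpecMap_of_isPushout _ _ _ _ (CommRingCat.isPushout_of_isPushout A (A₁ j) (B j) BA)).flip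
    let uj : Spec (CommRingCat.of BA) ⟶ pullback f (fA A (A₁ j)) :=
      pullback.lift (fA (B j) BA ≫ jm j) (fA (A₁ j) BA) (by rw [Category.assoc, ← hψ']; exact hsq.w)
    have hu1 : uj ≫ pullback.fst f (fA A (A₁ j)) = fA (B j) BA ≫ jm j := pullback.lift_fst _ _ _
    have hu2 : uj ≫ pullback.snd f (fA A (A₁ j)) = fA (A₁ j) BA := pullback.lift_snd _ _ _
    have hupb : IsPullback (fA (B j) BA) uj (jm j) (pullback.fst f (fA A (A₁ j))) := by
      refine IsPullback.of_bot ?_ hu1.symm (IsPullback.of_hasPullback f (fA A (A₁ j)))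
      rw [hu2, ← hψ']
      exact hsq
    haveI : IsOpenImmersion uj := MorphismProperty.of_isPullback (P := @IsOpenImmersion) hupb inferInstance
    haveI : ∀ i, Algebra.Etale BA (C i) := fun i => (hC i).1
    haveI hspec : ∀ i, Etale (fA BA (C i)) := fun i =>
      (HasRingHomProperty.Spec_iff (P := @Etale)).2 (RingHom.etale_algebraMap.2 inferInstance)
    refine ⟨k, C, inferInstance, inferInstance, Nc, inferInstance, inferInstance,
      fun i => fA BA (C i) ≫ uj, fun i => ⟨Algebra.FinitePresentation.trans (A₁ j) BA (C i),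
        Module.FinitePresentation.of_equiv (hC i).2.1.equiv, (hC i).2.2, inferInstance, ?_, ?_⟩, fun y hy hyj => ?_⟩
    · rw [Category.assoc, hu2, ← Spec.map_comp, ← CommRingCat.ofHom_comp, ← IsScalarTower.algebraMap_eq]
    · obtain ⟨e₁⟩ := pullback_mt' (TensorProduct.mk (B j) BA (N j) 1) (TensorProduct.isBaseChange (B j) (N j) BA)
        (jm j) (uj ≫ pullback.fst f (fA A (A₁ j))) hu1.symm (eN j)
      exact pullback_mt' (gm i) (hC i).2.1 (uj ≫ pullback.fst f (fA A (A₁ j))) _ (Category.assoc _ _ _).symm e₁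
    · obtain ⟨b, hb⟩ := hyj
      obtain ⟨w, -, hw⟩ := Scheme.exists_preimage_of_isPullback hupb b y hb
      have hQ : (w : PrimeSpectrum BA).asIdeal.LiesOver (t₁ j) := ⟨by
        have : fA (A₁ j) BA w = (⟨t₁ j, inferInstance⟩ : PrimeSpectrum (A₁ j)) := by
          rw [← hu2, Scheme.Hom.comp_apply, hw]; exact hy
        exact (congrArg PrimeSpectrum.asIdeal this).symm⟩
      haveI := (w : PrimeSpectrum BA).2
      obtain ⟨i, Q', hQ', hQ'c⟩ := hcov (w : PrimeSpectrum BA).asIdeal hQ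
      refine ⟨i, (⟨Q', hQ'⟩ : PrimeSpectrum (C i)), ?_⟩
      rw [Scheme.Hom.comp_apply, ← hw]
      exact congrArg uj (PrimeSpectrum.ext hQ'c)
  choose k C _ _ M _ _ h₀ hprop hcov₀ using hpiece
  letI : ∀ j, Algebra (A₁ j) A' := fun j => (φ j).toRingHom.toAlgebra
  haveI : ∀ j, IsScalarTower A (A₁ j) A' := fun j => IsScalarTower.of_algebraMap_eq fun a => ((φ j).commutes a).symm
  haveI : ∀ j, t'.LiesOver (t₁ j) := fun j => ⟨(hφ j).symm⟩
  let J := Σ j, Fin (k j)
  let K := Fintype.card J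
  let eJ : Fin K ≃ J := (Fintype.equivFin J).symm
  haveI : ∀ j i, Algebra.FinitePresentation (A₁ j) (C j i) := fun j i => (hprop j i).1
  haveI : ∀ j i, Module.FinitePresentation (C j i) (M j i) := fun j i => (hprop j i).2.1
  have hh : ∀ p : J, ∃ h : Spec (CommRingCat.of (A' ⊗[A₁ p.1] C p.1 p.2)) ⟶ pullback f (fA A A'), Etale h ∧
      h ≫ pullback.snd f (fA A A') = fA A' (A' ⊗[A₁ p.1] C p.1 p.2) ∧
      Nonempty ((Scheme.Modules.pullback h).obj ((Scheme.Modules.pullback (pullback.fst f (fA A A'))).obj F) ≅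
        mt (A' ⊗[A₁ p.1] C p.1 p.2) ((A' ⊗[A₁ p.1] C p.1 p.2) ⊗[C p.1 p.2] M p.1 p.2)) ∧
      ∀ x, bcMap f (A₁ p.1) A' x ∈ Set.range (h₀ p.1 p.2) → x ∈ Set.range h := fun p => by
    haveI := (hprop p.1 p.2).2.2.2.1
    exact exists_chart_piece f F (M p.1 p.2) (h₀ p.1 p.2) (hprop p.1 p.2).2.2.2.2.1 (hprop p.1 p.2).2.2.2.2.2.some
  choose h hh1 hh2 hh3 hh4 using hh
  have hdev : ∀ p : J, Nonempty (FlatCA.CompleteDevissage A' (A' ⊗[A₁ p.1] C p.1 p.2)
      ((A' ⊗[A₁ p.1] C p.1 p.2) ⊗[C p.1 p.2] M p.1 p.2) t') := fun p => by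
    obtain ⟨D', -⟩ := S12243.result (A₁ p.1) (C p.1 p.2) (M p.1 p.2) (t₁ p.1) (hprop p.1 p.2).2.2.1.some A' t'
      (A' ⊗[A₁ p.1] C p.1 p.2) ((A' ⊗[A₁ p.1] C p.1 p.2) ⊗[C p.1 p.2] M p.1 p.2)
      (TensorProduct.mk _ _ _ 1) (TensorProduct.isBaseChange _ _ _)
    exact ⟨D'⟩
  haveI : ∀ i, Etale (h (eJ i)) := fun i => hh1 (eJ i)
  refine hasChart_of_family f F hF t A' t' (fun i => A' ⊗[A₁ (eJ i).1] C (eJ i).1 (eJ i).2)
    (fun i => (A' ⊗[A₁ (eJ i).1] C (eJ i).1 (eJ i).2) ⊗[C (eJ i).1 (eJ i).2] M (eJ i).1 (eJ i).2)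
    (fun i => hdev (eJ i)) (fun i => h (eJ i)) (fun i => hh2 (eJ i)) (fun i => hh3 (eJ i)) (fun x hx => ?_) ?_
  · obtain ⟨b, hb⟩ := 𝒰.covers (pullback.fst f (fA A A') x)
    let j := el.symm (𝒰.idx (pullback.fst f (fA A A') x))
    obtain ⟨i, hi⟩ := hcov₀ j (bcMap f (A₁ j) A' x) (by
      rw [← Scheme.Hom.comp_apply, show bcMap f (A₁ j) A' ≫ pullback.snd f (fA A (A₁ j)) =
        pullback.snd f (fA A A') ≫ fA (A₁ j) A' from pullback.lift_snd _ _ _, Scheme.Hom.comp_apply, hx]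
      exact PrimeSpectrum.ext (hφ j)) (by
      rw [← Scheme.Hom.comp_apply, bcMap_fst]
      have key : ∀ (i : 𝒰.I₀) (y : X), y ∈ Set.range (𝒰.f i) → ∀ j, el j = i → y ∈ Set.range (jm j) := by
        rintro i y ⟨z, rfl⟩ j rfl
        exact ⟨(𝒰.X (el j)).isoSpec.hom z, by
          show (𝒰.f (el j)) ((𝒰.X (el j)).isoSpec.inv ((𝒰.X (el j)).isoSpec.hom z)) = _
          rw [Scheme.hom_inv_apply]⟩
      exact key _ _ ⟨b, hb⟩ j (el.apply_symm_apply _))
    obtain ⟨p, hp⟩ := eJ.surjective ⟨j, i⟩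
    refine ⟨p, ?_⟩
    have key : ∀ q : J, q = eJ p → x ∈ Set.range (h q) → x ∈ Set.range (h (eJ p)) := fun q hq hx => hq ▸ hx
    exact key ⟨j, i⟩ hp.symm (hh4 ⟨j, i⟩ x hi)
  · intro x _ hxt
    exact (pullback.snd f (fA A A')).isClosedMap.specializingMap
      ((PrimeSpectrum.le_iff_specializes _ (⟨t', inferInstance⟩ : PrimeSpectrum A')).1 hxt)

end Groth.Agent.PureRep4

namespace Groth.Agent.PureRep4

variable {A : Type u} [CommRing A] {X : Scheme.{u}} (f : X ⟶ Spec (CommRingCat.of A)) (F : X.Modules)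
  [IsProper f] [LocallyOfFinitePresentation f] [Coh.IsQCoh F]

/-- A dimension bound. -/
theorem exists_bound_proper (hF : CohB1.IsFP F) :
    ∃ m, FpqcFun4.P f F m (Over.mk (𝟙 (Spec (CommRingCat.of A)))) := by
  classical
  haveI : CompactSpace X := (quasiCompact_iff_compactSpace f).1 inferInstance
  let 𝒰 := X.affineCover.finiteSubcover
  haveI hUaff : ∀ i : 𝒰.I₀, IsAffine (𝒰.X i) := fun i => by
    show IsAffine (X.affineCover.X _)
    infer_instance
  have hb : ∀ i : 𝒰.I₀, ∃ m, FpqcFun4.P (((𝒰.X i).isoSpec.inv ≫ 𝒰.f i) ≫ f)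
      ((Scheme.Modules.pullback ((𝒰.X i).isoSpec.inv ≫ 𝒰.f i)).obj F) m (Over.mk (𝟙 (Spec (CommRingCat.of A)))) := fun i => by
    let B : Type u := Γ(𝒰.X i, ⊤)
    let j : Spec (CommRingCat.of B) ⟶ X := (𝒰.X i).isoSpec.inv ≫ 𝒰.f i
    haveI : IsOpenImmersion j := inferInstanceAs (IsOpenImmersion ((𝒰.X i).isoSpec.inv ≫ 𝒰.f i))
    obtain ⟨ψ, hψ⟩ := Spec.map_surjective (j ≫ f)
    letI : Algebra A B := ψ.hom.toAlgebra
    have hψ' : fA A B = j ≫ f := hψ
    haveI : Algebra.FinitePresentation A B := by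
      have h : LocallyOfFinitePresentation (fA A B) := by rw [hψ']; infer_instance
      exact RingHom.finitePresentation_algebraMap.1 ((HasRingHomProperty.Spec_iff (P := @LocallyOfFinitePresentation)).1 h)
    let G := (Scheme.Modules.pullback j).obj F
    haveI : Coh.IsQCoh G := M1.isQCoh_pullback _ inferInstance
    let N : Type u := ((moduleSpecΓFunctor (R := CommRingCat.of B)).obj G : Type u)
    let e : G ≅ mt B N := (@asIso _ _ _ _ G.fromTildeΓ
      (Scheme.Modules.isIso_fromTildeΓ_of_isQuasicoherent (R := CommRingCat.of B) _)).symm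
    haveI : Module.FinitePresentation B N := M1.finitePresentation_sections_spec G (M1.isFP_pullback _ hF)
    haveI : Coh.IsQCoh (mt B N) := inferInstanceAs (Coh.IsQCoh (tilde _))
    haveI : LocallyOfFiniteType (fA A B) := locallyOfFiniteType_fA A B
    obtain ⟨m, hm⟩ := exists_bound (A := A) (B := B) N
    exact ⟨m, (P_hom_congr hψ').1 (P_of_iso e.symm hm)⟩
  choose m hm using hb
  refine ⟨∑ i, m i, P_of_family f F (M1.isFP_isFT hF) (fun i : 𝒰.I₀ => Spec (CommRingCat.of Γ(𝒰.X i, ⊤)))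
    (fun i => (𝒰.X i).isoSpec.inv ≫ 𝒰.f i) _ _ (fun y _ _ => ?_) fun i z hz =>
      lt_of_lt_of_le (hm i z hz) (Nat.cast_le.2 (Finset.single_le_sum (f := m) (fun _ _ => Nat.zero_le _) (Finset.mem_univ i)))⟩
  obtain ⟨z, hz⟩ := 𝒰.covers y
  exact ⟨𝒰.idx y, (𝒰.X _).isoSpec.hom z, by
    show 𝒰.f _ ((𝒰.X _).isoSpec.inv ((𝒰.X _).isoSpec.hom z)) = y
    rw [Scheme.hom_inv_apply]; exact hz⟩

end Groth.Agent.PureRep4
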