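import Groth.Agent.Lib.FpqcFun4.DimLT
import Groth.Agent.Lib.OverRep16.Glue
import Groth.Agent.Lib.SchDesc12.LQF
import Groth.Agent.Lib.FpqcDesc.Basic
import Groth.Agent.S1134
import Groth.Agent.Lib.EtBase.Unramified
import Mathlib

/-!
# Representability by monomorphisms of finite presentation, locally and after descent
-/

set_option autoImplicit false
set_option linter.style.haveILetI false
set_option backward.isDefEq.respectTransparency false
set_option backward.isDefEq.respectTransparency.types false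

universe u

open CategoryTheory CategoryTheory.Limits AlgebraicGeometry Opposite TopologicalSpace

noncomputable section

namespace Groth.Agent.PureRep4

open FpqcFun4

variable {X S : Scheme.{u}} (f : X ⟶ S) [LocallyOfFiniteType f] (F : X.Modules) [Coh.IsQCoh F] (n : ℕ)

/-- `F_n`, restricted to the schemes over `Y`, is represented by a monomorphism of finite presentation. -/
def RepOn {Y : Scheme.{u}} (q : Y ⟶ S) : Prop :=
  ∃ (Z : Scheme.{u}) (i : Z ⟶ Y), Mono i ∧ LocallyOfFinitePresentation i ∧ QuasiCompact i ∧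
    ∀ (T : Scheme.{u}) (x : T ⟶ Y), P f F n (Over.mk (x ≫ q)) ↔ ∃ k, k ≫ i = x

variable {f F n}

theorem P_congr {T : Scheme.{u}} {a b : T ⟶ S} (h : a = b) (hP : P f F n (Over.mk a)) :
    P f F n (Over.mk b) := h ▸ hP

theorem P_comp {T T' : Scheme.{u}} (g : T' ⟶ T) {a : T ⟶ S} (hP : P f F n (Over.mk a)) :
    P f F n (Over.mk (g ≫ a)) :=
  P_of_hom f F n (Over.homMk g rfl : Over.mk (g ≫ a) ⟶ Over.mk a) hP

theorem P_of_openCover {T : Scheme.{u}} (𝒰 : Scheme.OpenCover.{u} T) {a : T ⟶ S}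
    (h : ∀ j, P f F n (Over.mk (𝒰.f j ≫ a))) : P f F n (Over.mk a) :=
  P_of_cover f F n _ fun t => by
    obtain ⟨y, hy⟩ := 𝒰.covers t
    exact ⟨Over.mk (𝒰.f (𝒰.idx t) ≫ a), Over.homMk (𝒰.f (𝒰.idx t)) rfl,
      inferInstanceAs (Flat (𝒰.f (𝒰.idx t))), ⟨y, hy⟩, h _⟩

/-- Affine test schemes suffice. -/
theorem repOn_of_affine {Y : Scheme.{u}} (q : Y ⟶ S) {Z : Scheme.{u}} (i : Z ⟶ Y) [Mono i]
    [LocallyOfFinitePresentation i] [QuasiCompact i]
    (h : ∀ (R : CommRingCat.{u}) (x : Spec R ⟶ Y), P f F n (Over.mk (x ≫ q)) ↔ ∃ k, k ≫ i = x) :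
    RepOn f F n q := by
  refine ⟨Z, i, inferInstance, inferInstance, inferInstance, fun T x => ⟨fun hP => ?_, ?_⟩⟩
  · let 𝒰 := T.affineCover
    have hk : ∀ j, ∃ l, l ≫ i = 𝒰.f j ≫ x := fun j =>
      (h _ (𝒰.f j ≫ x)).1 (P_congr (Category.assoc _ _ _).symm (P_comp (𝒰.f j) hP))
    choose l hl using hk
    refine ⟨𝒰.glueMorphisms l fun a b => ?_, 𝒰.hom_ext _ _ fun j => by rw [Scheme.Cover.ι_glueMorphisms_assoc, hl]⟩
    rw [← cancel_mono i, Category.assoc, Category.assoc, hl, hl, pullback.condition_assoc]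
  · rintro ⟨k, rfl⟩
    exact P_of_openCover T.affineCover fun j =>
      P_congr (Category.assoc _ _ _) ((h _ (T.affineCover.f j ≫ k ≫ i)).2 ⟨T.affineCover.f j ≫ k, Category.assoc _ _ _⟩)

/-- Where the condition holds everywhere it is represented by the identity. -/
theorem repOn_of_P {Y : Scheme.{u}} {q : Y ⟶ S} (h : P f F n (Over.mk q)) : RepOn f F n q :=
  ⟨Y, 𝟙 Y, inferInstance, inferInstance, inferInstance, fun _ x => iff_of_true (P_comp x h) ⟨x, Category.comp_id x⟩⟩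

/-- Restriction along a morphism. -/
theorem repOn_comp {Y Y' : Scheme.{u}} (g : Y' ⟶ Y) {q : Y ⟶ S} (h : RepOn f F n q) : RepOn f F n (g ≫ q) := by
  obtain ⟨Z, i, h1, h2, h3, hZ⟩ := h
  refine ⟨pullback i g, pullback.snd i g, inferInstance, inferInstance, inferInstance, fun T x => ⟨fun hP => ?_, ?_⟩⟩
  · obtain ⟨k, hk⟩ := (hZ T (x ≫ g)).1 (P_congr (Category.assoc _ _ _).symm hP)
    exact ⟨pullback.lift k x hk, pullback.lift_snd _ _ _⟩
  · rintro ⟨k, rfl⟩
    refine P_congr (Category.assoc _ _ _) ((hZ T ((k ≫ pullback.snd i g) ≫ g)).2 ⟨k ≫ pullback.fst i g, ?_⟩)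
    rw [Category.assoc, Category.assoc, pullback.condition]

variable (f F n) in
/-- The functor of the condition on the schemes over `Y`. -/
def G {Y : Scheme.{u}} (q : Y ⟶ S) : (Over Y)ᵒᵖ ⥤ Type u where
  obj T := ULift.{u} (PLift (P f F n (Over.mk (T.unop.hom ≫ q))))
  map g := ↾fun x => ⟨⟨P_congr (by rw [← Category.assoc, Over.w g.unop]) (P_comp g.unop.left x.down.down)⟩⟩
  map_id T := by ext x; exact Subsingleton.elim (α := PLift (P f F n (Over.mk (T.unop.hom ≫ q)))) _ _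
  map_comp {T T' T''} g g' := by
    ext x; exact Subsingleton.elim (α := PLift (P f F n (Over.mk (T''.unop.hom ≫ q)))) _ _

instance subsingleton_G {Y : Scheme.{u}} (q : Y ⟶ S) (T : (Over Y)ᵒᵖ) : Subsingleton ((G f F n q).obj T) :=
  inferInstanceAs (Subsingleton (ULift.{u} (PLift _)))

/-- Representability is local on the base. -/
theorem repOn_of_local {Y : Scheme.{u}} (q : Y ⟶ S)
    (h : ∀ y : Y, ∃ V : Y.Opens, y ∈ V ∧ RepOn f F n (V.ι ≫ q)) : RepOn f F n q := by
  choose V hV Z i h1 h2 h3 hZ using h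
  have hsheaf : OverRep16.IsZarSheaf (G f F n q) := by
    intro T 𝒰 x _
    have hT : P f F n (Over.mk (T.hom ≫ q)) := P_of_cover f F n _ fun t => by
      obtain ⟨y, hy⟩ := 𝒰.covers t
      exact ⟨Over.mk (𝒰.f (𝒰.idx t) ≫ T.hom ≫ q), Over.homMk (𝒰.f (𝒰.idx t)) rfl,
        inferInstanceAs (Flat (𝒰.f (𝒰.idx t))), ⟨y, hy⟩,
        P_congr (Category.assoc _ _ _) (x (𝒰.idx t)).down.down⟩
    exact ⟨⟨⟨hT⟩⟩, fun k => Subsingleton.elim _ _, fun _ _ => Subsingleton.elim _ _⟩
  have hPi : ∀ y, P f F n (Over.mk ((i y ≫ (V y).ι) ≫ q)) := fun y =>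
    P_congr (Category.assoc _ _ _).symm ((hZ y _ (i y)).2 ⟨𝟙 _, Category.id_comp _⟩)
  have hfac : ∀ (y : Y) (T : Scheme.{u}) (x : T ⟶ Y), (∀ z, x z ∈ V y) → P f F n (Over.mk (x ≫ q)) →
      ∃ k, k ≫ i y ≫ (V y).ι = x := fun y T x hx hP => by
    have hr : Set.range x ⊆ Set.range (V y).ι := by
      rw [Scheme.Opens.range_ι]; rintro _ ⟨z, rfl⟩; exact hx z
    obtain ⟨k, hk⟩ := (hZ y T (IsOpenImmersion.lift (V y).ι x hr)).1
      (P_congr (by rw [IsOpenImmersion.lift_fac_assoc]) hP)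
    exact ⟨k, by rw [← Category.assoc, hk, IsOpenImmersion.lift_fac]⟩
  let C : Y → OverRep16.Chart (G f F n q) := fun y =>
    { U := Over.mk (i y ≫ (V y).ι)
      Z := ⟨⟨hPi y⟩⟩
      eq_of_map_eq := fun a b _ => by
        haveI := h1 y
        exact Over.OverMorphism.ext ((cancel_mono (i y ≫ (V y).ι)).1 ((Over.w a).trans (Over.w b).symm))
      exists_locus := fun T Z' => ⟨T.hom ⁻¹ᵁ V y, fun {T'} g => ⟨fun hg => by
          obtain ⟨k, hk⟩ := hfac y _ T'.hom (fun z => by rw [← Over.w g, Scheme.Hom.comp_apply]; exact hg z)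
            (P_congr (by rw [← Category.assoc, Over.w g]) (P_comp g.left Z'.down.down))
          exact ⟨Over.homMk k hk, Subsingleton.elim _ _⟩, fun ⟨k, _⟩ z => by
          show T.hom (g.left z) ∈ V y
          rw [← Scheme.Hom.comp_apply, Over.w g, ← Over.w k]
          exact ((i y) (k.left z)).2⟩⟩ }
  obtain ⟨W, ⟨r⟩⟩ := OverRep16.representable_of_charts hsheaf C fun T Z' t => by
    obtain ⟨k, hk⟩ := hfac (T.hom t) (T.hom ⁻¹ᵁ V (T.hom t)) ((T.hom ⁻¹ᵁ V (T.hom t)).ι ≫ T.hom) (fun z => z.2)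
      (P_congr (Category.assoc _ _ _).symm (P_comp _ Z'.down.down))
    exact ⟨T.hom t, T.hom ⁻¹ᵁ V (T.hom t), hV (T.hom t), Over.homMk k hk, Subsingleton.elim _ _⟩
  have hW : P f F n (Over.mk (W.hom ≫ q)) := (r.homEquiv (𝟙 W)).down.down
  have huniq : ∀ {T : Scheme.{u}} (a b : T ⟶ W.left), a ≫ W.hom = b ≫ W.hom → a = b := fun {T} a b hab =>
    congrArg Over.Hom.left (r.homEquiv.injective (a₁ := (Over.homMk a rfl : Over.mk (a ≫ W.hom) ⟶ W))
      (a₂ := Over.homMk b hab.symm) (Subsingleton.elim _ _))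
  haveI : Mono W.hom := ⟨fun a b hab => huniq a b hab⟩
  have hsq : ∀ y, ∃ a, IsPullback a (i y) W.hom (V y).ι := fun y => by
    let a : Over.mk (i y ≫ (V y).ι) ⟶ W := r.homEquiv.symm ⟨⟨hPi y⟩⟩
    haveI := h1 y
    have hl : ∀ s : PullbackCone W.hom (V y).ι, ∃ l : s.pt ⟶ Z y, l ≫ i y = s.snd := fun s =>
      (hZ y s.pt s.snd).1 (P_congr (by rw [← Category.assoc, ← Category.assoc, s.condition]) (P_comp s.fst hW))
    choose l hl using hl
    refine ⟨a.left, ⟨Over.w a⟩, ⟨PullbackCone.IsLimit.mk _ l (fun s => huniq _ _ ?_) hl fun s m _ h₂ => ?_⟩⟩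
    · rw [Category.assoc, Over.w a, s.condition]
      show l s ≫ i y ≫ (V y).ι = _
      rw [← Category.assoc, hl]
    · exact (cancel_mono (i y)).1 (h₂.trans (hl s).symm)
  have hloc : ∀ (Q : MorphismProperty Scheme.{u}) [IsZariskiLocalAtTarget Q], (∀ y, Q (i y)) → Q W.hom := by
    intro Q _ hQ
    refine IsZariskiLocalAtTarget.of_iSup_eq_top (fun y => V y) ?_ fun y => ?_
    · exact top_le_iff.1 fun z _ => Opens.mem_iSup.2 ⟨z, hV z⟩
    · obtain ⟨a, ha⟩ := hsq y
      have e := IsPullback.isoIsPullback _ _ (isPullback_morphismRestrict W.hom (V y)).flip ha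
      have he : (W.hom ∣_ V y) = (IsPullback.isoIsPullback _ _ (isPullback_morphismRestrict W.hom (V y)).flip ha).hom ≫ i y :=
        (IsPullback.isoIsPullback_hom_snd _ _ _ _).symm
      rw [he]
      exact (Q.cancel_left_of_respectsIso _ _).2 (hQ y)
  exact ⟨W.left, W.hom, inferInstance, hloc @LocallyOfFinitePresentation h2, hloc @QuasiCompact h3, fun T x =>
    ⟨fun hP => ⟨(r.homEquiv.symm (⟨⟨hP⟩⟩ : (G f F n q).obj (op (Over.mk x)))).left, Over.w _⟩,
      fun ⟨k, hk⟩ => P_congr (by rw [← Category.assoc, hk]) (P_comp k hW)⟩⟩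

/-- Representability descends along a flat surjective quasi-compact morphism. -/
theorem repOn_descend {Y E : Scheme.{u}} (p : E ⟶ Y) [Surjective p] [Flat p] [QuasiCompact p] {q : Y ⟶ S}
    (h : RepOn f F n (p ≫ q)) : RepOn f F n q := by
  obtain ⟨Z', i', h1, h2, h3, hZ'⟩ := h
  haveI := h1
  have hlift : ∀ {T : Scheme.{u}} (x₀ x₁ : T ⟶ E), x₀ ≫ p = x₁ ≫ p →
      Desc.Lifts (Over.mk i') x₀ → Nonempty (Desc.Lifts (Over.mk i') x₁) := fun {T} x₀ x₁ e v => by
    obtain ⟨k, hk⟩ := (hZ' T x₁).1 (P_congr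
      (show x₀ ≫ p ≫ q = x₁ ≫ p ≫ q by rw [← Category.assoc, e, Category.assoc]) ((hZ' T x₀).2 ⟨v.1, v.2⟩))
    exact ⟨⟨k, hk⟩⟩
  haveI hsub : ∀ {T : Scheme.{u}} (x : T ⟶ E), Subsingleton (Desc.Lifts (Over.mk i') x) := fun {T} x =>
    ⟨fun a b => Subtype.ext ((cancel_mono i').1 (a.2.trans b.2.symm))⟩
  let D : Desc.SchDD p :=
    { obj := Over.mk i'
      φ := fun T x₀ x₁ e =>
        { toFun := fun v => (hlift x₀ x₁ e v).some
          invFun := fun v => (hlift x₁ x₀ e.symm v).some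
          left_inv := fun v => Subsingleton.elim _ _
          right_inv := fun v => Subsingleton.elim _ _ }
      φ_natural := fun T T' g x₀ x₁ e e' v v' _ => (cancel_mono i').1
        (((hlift (g ≫ x₀) (g ≫ x₁) e' v').some.2).trans
          ((congrArg (g ≫ ·) (hlift x₀ x₁ e v).some.2.symm).trans (Category.assoc _ _ _).symm))
      φ_self := fun T x v => Subsingleton.elim _ _
      φ_comp := fun T x₀ x₁ x₂ e e' v => Subsingleton.elim _ _ }
  haveI : LocallyQuasiFinite i' := by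
    haveI : FormallyUnramified i' := inferInstance
    exact EtBase.locallyQuasiFinite_of_formallyUnramified i'
  obtain ⟨U, ⟨e⟩⟩ := S1134.result p D (SchDesc12.mor2_isQuasiAffine_of_lqf i')
  let b : pullback p U.hom ⟶ Z' := e.hom.hom.left
  have hb : b ≫ i' = pullback.fst p U.hom := Over.w e.hom.hom
  haveI : IsIso b := by
    refine ⟨e.inv.hom.left, ?_, ?_⟩
    · exact congrArg (fun m : (Desc.toDD p).obj U ⟶ (Desc.toDD p).obj U => m.hom.left) e.hom_inv_id
    · exact congrArg (fun m : D ⟶ D => m.hom.left) e.inv_hom_id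
  haveI : Mono (pullback.fst p U.hom) := by rw [← hb]; exact mono_comp _ _
  haveI : Mono U.hom := ⟨fun {T} a c hac => by
    haveI : Flat (pullback.fst (a ≫ U.hom) p) := inferInstance
    haveI : Surjective (pullback.fst (a ≫ U.hom) p) := inferInstance
    haveI : QuasiCompact (pullback.fst (a ≫ U.hom) p) := inferInstance
    rw [← cancel_epi (pullback.fst (a ≫ U.hom) p)]
    have w₁ : pullback.snd (a ≫ U.hom) p ≫ p = (pullback.fst (a ≫ U.hom) p ≫ a) ≫ U.hom := by
      rw [Category.assoc, pullback.condition]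
    have w₂ : pullback.snd (a ≫ U.hom) p ≫ p = (pullback.fst (a ≫ U.hom) p ≫ c) ≫ U.hom := by
      rw [w₁, Category.assoc, hac, Category.assoc]
    have key : pullback.lift _ _ w₁ = pullback.lift _ _ w₂ := by
      rw [← cancel_mono (pullback.fst p U.hom), pullback.lift_fst, pullback.lift_fst]
    simpa using congrArg (· ≫ pullback.snd p U.hom) key⟩
  have hfl : (@Surjective ⊓ @Flat ⊓ @QuasiCompact : MorphismProperty Scheme.{u}) p :=
    ⟨⟨inferInstance, inferInstance⟩, inferInstance⟩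
  haveI := Groth.Agent.FpqcDesc.descendsAlong_quasiCompact.{u}
  have hpb : ∀ (Q : MorphismProperty Scheme.{u}) [Q.RespectsIso], Q i' → Q (pullback.fst p U.hom) := fun Q _ hQ => by
    rw [← hb]; exact (Q.cancel_left_of_respectsIso b i').2 hQ
  refine ⟨U.left, U.hom, inferInstance,
    MorphismProperty.of_pullback_fst_of_descendsAlong (P := @LocallyOfFinitePresentation) hfl (hpb _ h2),
    MorphismProperty.of_pullback_fst_of_descendsAlong (P := @QuasiCompact) hfl (hpb _ h3), fun T x => ⟨fun hP => ?_, ?_⟩⟩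
  · let π := pullback.fst x p
    obtain ⟨k, hk⟩ := (hZ' _ (pullback.snd x p)).1
      (P_congr (by rw [← Category.assoc, pullback.condition, Category.assoc]) (P_comp π hP))
    let l : pullback x p ⟶ U.left := k ≫ inv b ≫ pullback.snd p U.hom
    have hl : l ≫ U.hom = π ≫ x := by
      simp only [l, π, Category.assoc, ← pullback.condition]
      rw [← Category.assoc (inv b), show inv b ≫ pullback.fst p U.hom = i' from (IsIso.inv_comp_eq b).2 hb.symm,
        ← Category.assoc, hk, pullback.condition]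
    refine ⟨EffectiveEpi.desc π l fun g₁ g₂ hg => ?_, ?_⟩
    · exact (cancel_mono U.hom).1 ((Category.assoc _ _ _).trans ((congrArg (g₁ ≫ ·) hl).trans ((Category.assoc _ _ _).symm.trans
        ((congrArg (· ≫ x) hg).trans ((Category.assoc _ _ _).trans ((congrArg (g₂ ≫ ·) hl.symm).trans (Category.assoc _ _ _).symm))))))
    · rw [← cancel_epi π, EffectiveEpi.fac_assoc, hl]
  · rintro ⟨k, rfl⟩
    refine P_of_cover f F n _ fun t => ?_
    obtain ⟨z, hz⟩ := Surjective.surj (f := pullback.fst (k ≫ U.hom) p) t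
    refine ⟨Over.mk (pullback.fst (k ≫ U.hom) p ≫ (k ≫ U.hom) ≫ q), Over.homMk (pullback.fst (k ≫ U.hom) p) rfl,
      inferInstanceAs (Flat (pullback.fst (k ≫ U.hom) p)), ⟨z, hz⟩, ?_⟩
    refine P_congr (by rw [← Category.assoc, ← pullback.condition, Category.assoc, Category.assoc]) ((hZ' _
      (pullback.snd (k ≫ U.hom) p)).2 ⟨pullback.lift (pullback.snd (k ≫ U.hom) p) (pullback.fst (k ≫ U.hom) p ≫ k)
        (by rw [Category.assoc, pullback.condition]) ≫ b, ?_⟩)
    rw [Category.assoc, hb, pullback.lift_fst]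

end Groth.Agent.PureRep4
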